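import Mathlib
import Cfsg.Prelude.Def_LieClassical
import Cfsg.Agent.LieClassical.GUOrder
import Cfsg.Agent.S0279
import Cfsg.Agent.SporadicA.PermTab
import Cfsg.Agent.FastGrp
import Cfsg.Agent.Prune
set_option linter.all false

section
prune_inst 0x7fbfacfdffbcafffffff7e77fedcdffe39d4dfffbcdffb4bffe8e9ffaf9f238219e5f38d9de058ff0ed7c2b610a87803fb7eeeffea6fdc7ffffdfff45ffbee1fa5e7bd8051978c340fbc6fff83f07fce7f3fffffffffffffffffffffffffffbefffdffffffff

-- part: H92/KTools
section
set_option linter.all false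
open scoped Cfsg.Agent.FastGrp

/-!
# Tools for lower bounds of the number of conjugacy classes

* `card_le_of_inj`, `length_le`: pairwise non conjugate elements
* `range_le`: the number of values of a class function
* `orders_le`, `sum_le`: element orders
* `card_le_mul_quotient`: `k(H) ≤ |Z| k(H/Z)` for `Z` central
* `HasOrd`: element orders pass to overgroups and from sections.
-/

set_option autoImplicit false

namespace Cfsg.Agent.H92.KTools

universe u v

variable {G : Type u} [Group G]

/-- `G` has an element of order `n`. -/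
def HasOrd (G : Type u) [Group G] (n : ℕ) : Prop := ∃ g : G, orderOf g = n

theorem hasOrd_one (G : Type u) [Group G] : HasOrd G 1 := ⟨1, orderOf_one⟩

theorem HasOrd.of_injective {H : Type v} [Group H] {n : ℕ} (h : HasOrd H n) (f : H →* G)
    (hf : Function.Injective f) : HasOrd G n := by
  obtain ⟨g, hg⟩ := h
  exact ⟨f g, by rw [orderOf_injective f hf, hg]⟩

theorem HasOrd.of_equiv {H : Type v} [Group H] {n : ℕ} (h : HasOrd H n) (e : H ≃* G) : HasOrd G n :=
  h.of_injective e.toMonoidHom e.injective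

theorem HasOrd.of_subgroup {K : Subgroup G} {n : ℕ} (h : HasOrd K n) : HasOrd G n :=
  h.of_injective K.subtype K.subtype_injective

theorem HasOrd.pow {n m : ℕ} (h : HasOrd G (n * m)) (hm : m ≠ 0) : HasOrd G n := by
  obtain ⟨g, hg⟩ := h
  exact ⟨g ^ m, by rw [orderOf_pow_of_dvd hm (by rw [hg]; exact dvd_mul_left m n), hg,
    Nat.mul_div_cancel _ (Nat.pos_of_ne_zero hm)]⟩

theorem HasOrd.of_dvd {n m : ℕ} (h : HasOrd G m) (hd : n ∣ m) (hm : m ≠ 0) : HasOrd G n := by
  obtain ⟨c, rfl⟩ := hd
  exact h.pow (right_ne_zero_of_mul hm)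

/-- element orders of a quotient lift. -/
theorem HasOrd.of_surjective [Finite G] {H : Type v} [Group H] {n : ℕ} (h : HasOrd H n) (f : G →* H)
    (hf : Function.Surjective f) : HasOrd G n := by
  obtain ⟨g, hg⟩ := h
  obtain ⟨x, rfl⟩ := hf g
  have h1 : n ∣ orderOf x := by rw [← hg]; exact orderOf_map_dvd f x
  exact HasOrd.of_dvd ⟨x, rfl⟩ h1 (orderOf_pos x).ne'

theorem hasOrd_prime [Finite G] {p : ℕ} (hp : p.Prime) (h : p ∣ Nat.card G) : HasOrd G p := by
  have := Fact.mk hp
  obtain ⟨g, hg⟩ := exists_prime_orderOf_dvd_card' p h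
  exact ⟨g, hg⟩

theorem HasOrd.mul_of_commute {a b : ℕ} {x y : G} (hx : orderOf x = a) (hy : orderOf y = b)
    (hxy : Commute x y) (hab : a.Coprime b) : HasOrd G (a * b) :=
  ⟨x * y, by rw [hxy.orderOf_mul_eq_mul_orderOf_of_coprime (by rw [hx, hy]; exact hab), hx, hy]⟩

section Count

variable [Finite G]

theorem card_le_of_inj {ι : Type*} (f : ι → G) (h : ∀ i j, IsConj (f i) (f j) → i = j) :
    Nat.card ι ≤ Nat.card (ConjClasses G) := by
  have : Finite (ConjClasses G) := Quotient.finite _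
  refine Nat.card_le_card_of_injective (fun i => ConjClasses.mk (f i)) ?_
  intro i j hij
  exact h i j (ConjClasses.mk_eq_mk_iff_isConj.1 hij)

theorem length_le (l : List G) (h : l.Pairwise fun x y => ¬ IsConj x y) :
    l.length ≤ Nat.card (ConjClasses G) := by
  have h1 := card_le_of_inj (G := G) (ι := Fin l.length) (fun i => l.get i) ?_
  · simpa using h1
  · intro i j hij
    by_contra hne
    rcases lt_or_gt_of_ne hne with h2 | h2
    · exact List.pairwise_iff_get.1 h i j h2 hij
    · exact List.pairwise_iff_get.1 h j i h2 hij.symm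

/-- the number of values of a class function bounds the number of classes. -/
theorem range_le {α : Type*} (f : G → α) (hf : ∀ x y, IsConj x y → f x = f y) (s : Set α)
    (hs : ∀ a ∈ s, ∃ x, f x = a) : s.ncard ≤ Nat.card (ConjClasses G) := by
  choose g hg using hs
  have h1 := card_le_of_inj (G := G) (ι := s) (fun a => g a.1 a.2) ?_
  · rwa [Nat.card_coe_set_eq] at h1
  · rintro ⟨a, ha⟩ ⟨b, hb⟩ hab
    have := hf _ _ hab
    simp only at this
    rw [hg, hg] at this
    exact Subtype.ext this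

omit [Finite G] in
theorem orderOf_eq_of_isConj {x y : G} (h : IsConj x y) : orderOf x = orderOf y := by
  obtain ⟨c, hc⟩ := isConj_iff.1 h
  rw [← hc]
  exact (MulAut.conj c).orderOf_eq x |>.symm

/-- **counting by element orders, with multiplicities**: `f n` pairwise non conjugate elements of order `n`. -/
theorem sum_le (s : Finset ℕ) (f : ℕ → ℕ)
    (h : ∀ n ∈ s, ∃ l : List G, l.length = f n ∧ (∀ x ∈ l, orderOf x = n) ∧ l.Pairwise fun x y => ¬ IsConj x y) :
    ∑ n ∈ s, f n ≤ Nat.card (ConjClasses G) := by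
  classical
  have : Finite (ConjClasses G) := Quotient.finite _
  choose! l hl using h
  have h1 := card_le_of_inj (G := G) (ι := Σ n : s, Fin (l n).length) (fun p => (l p.1).get p.2) ?_
  · rw [Nat.card_sigma] at h1
    rw [show (∑ i : s, Nat.card (Fin (l i).length)) = ∑ i : s, (l i).length from
      Finset.sum_congr rfl fun i _ => Nat.card_fin _, Finset.sum_coe_sort s (fun n => (l n).length)] at h1
    refine le_trans (le_of_eq ?_) h1
    exact Finset.sum_congr rfl fun n hn => (hl n hn).1.symm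
  · rintro ⟨⟨n, hn⟩, i⟩ ⟨⟨m, hm⟩, j⟩ hij
    have h2 : n = m := by
      have h3 := orderOf_eq_of_isConj hij
      rw [(hl n hn).2.1 _ (List.get_mem _ _), (hl m hm).2.1 _ (List.get_mem _ _)] at h3
      exact h3
    subst h2
    have h3 : i = j := by
      by_contra hne
      rcases lt_or_gt_of_ne hne with h4 | h4
      · exact List.pairwise_iff_get.1 (hl n hn).2.2 i j h4 hij
      · exact List.pairwise_iff_get.1 (hl n hn).2.2 j i h4 hij.symm
    rw [h3]

theorem orders_le (s : Finset ℕ) (h : ∀ n ∈ s, HasOrd G n) : s.card ≤ Nat.card (ConjClasses G) := by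
  have := sum_le (G := G) s (fun _ => 1) ?_
  · simpa using this
  · intro n hn
    obtain ⟨g, hg⟩ := h n hn
    exact ⟨[g], rfl, by simpa using hg, by simp⟩

end Count

/-- `k(H) ≤ |Z| · k(H/Z)` for `Z` central. -/
theorem card_le_mul_quotient [Finite G] (Z : Subgroup G) [Z.Normal] (hZ : Z ≤ Subgroup.center G) :
    Nat.card (ConjClasses G) ≤ Nat.card Z * Nat.card (ConjClasses (G ⧸ Z)) := by
  classical
  have : Finite (ConjClasses (G ⧸ Z)) := Quotient.finite _
  have : Finite (ConjClasses G) := Quotient.finite _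
  rw [← Nat.card_prod]
  -- choose for each class of the quotient a representative lift
  choose r hr using fun c : ConjClasses (G ⧸ Z) => (ConjClasses.exists_rep c)
  choose s hs using fun c : ConjClasses (G ⧸ Z) => QuotientGroup.mk_surjective (r c)
  refine Nat.card_le_card_of_surjective (fun p : Z × ConjClasses (G ⧸ Z) => ConjClasses.mk ((p.1 : G) * s p.2)) ?_
  intro c
  obtain ⟨x, rfl⟩ := ConjClasses.exists_rep c
  set d : ConjClasses (G ⧸ Z) := ConjClasses.mk (x : G ⧸ Z) with hd
  have h1 : IsConj (r d) (x : G ⧸ Z) := by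
    rw [← ConjClasses.mk_eq_mk_iff_isConj, hr d]
  obtain ⟨g, hg⟩ := isConj_iff.1 h1
  obtain ⟨g, rfl⟩ := QuotientGroup.mk_surjective g
  rw [← hs d] at hg
  have h2 : (QuotientGroup.mk (g * s d * g⁻¹) : G ⧸ Z) = QuotientGroup.mk x := by
    simpa using hg
  rw [QuotientGroup.eq] at h2
  have h3 : (g * s d * g⁻¹)⁻¹ * x ∈ Subgroup.center G := hZ h2
  refine ⟨(⟨(g * s d * g⁻¹)⁻¹ * x, h2⟩, d), ?_⟩
  rw [ConjClasses.mk_eq_mk_iff_isConj, isConj_iff]
  refine ⟨g, ?_⟩
  simp only
  have h4 := Subgroup.mem_center_iff.1 h3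
  calc g * ((g * s d * g⁻¹)⁻¹ * x * s d) * g⁻¹ = g * (s d * ((g * s d * g⁻¹)⁻¹ * x)) * g⁻¹ := by
        rw [h4 (s d)]
    _ = (g * s d) * (((g * s d * g⁻¹)⁻¹ * x) * g⁻¹) := by group
    _ = (g * s d) * (g⁻¹ * ((g * s d * g⁻¹)⁻¹ * x)) := by rw [h4 g⁻¹]
    _ = x := by group

theorem card_classes_congr {H : Type v} [Group H] (e : G ≃* H) :
    Nat.card (ConjClasses G) = Nat.card (ConjClasses H) := by
  refine Nat.card_congr ⟨ConjClasses.map e.toMonoidHom, ConjClasses.map e.symm.toMonoidHom, ?_, ?_⟩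
  · intro c
    obtain ⟨x, rfl⟩ := ConjClasses.exists_rep c
    show ConjClasses.mk (e.symm (e x)) = _
    rw [e.symm_apply_apply]
  · intro c
    obtain ⟨x, rfl⟩ := ConjClasses.exists_rep c
    show ConjClasses.mk (e (e.symm x)) = _
    rw [e.apply_symm_apply]

end Cfsg.Agent.H92.KTools
end

-- part: H771/KTools
section
set_option linter.all false
open scoped Cfsg.Agent.FastGrp

/-!
# Element orders: tools for the sporadic rows (helper771)

* `hasOrd_of_pow` : `x ^ n = 1`, `x ^ (n / p) ≠ 1`;
* `two_mul_prime` : `p` divides the order of the centralizer of an involution: an element of order `2 p`;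
* `two_mul_odd` : an element of odd order `m` commuting with an involution;
* `four` : a noncentral square root;
* `four_of_central`, `four_of_selfN`: elements of order 4.
-/

set_option autoImplicit false

namespace Cfsg.Agent.H771.KTools

open Subgroup Cfsg.Agent.H92.KTools

universe u v

variable {G : Type u} [Group G]

theorem hasOrd_of_pow {x : G} {n : ℕ} (h0 : 0 < n) (hx : x ^ n = 1)
    (h : ∀ p ∈ n.primeFactors, x ^ (n / p) ≠ 1) : HasOrd G n :=
  ⟨x, orderOf_eq_of_pow_and_pow_div_prime h0 hx fun p hp hd =>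
    h p (Nat.mem_primeFactors.2 ⟨hp, hd, h0.ne'⟩)⟩

theorem four {a z : G} (h : a * a = z) (hzz : z * z = 1) (hz : z ≠ 1) : HasOrd G 4 := by
  refine ⟨a, orderOf_eq_prime_pow (p := 2) (n := 1) ?_ ?_⟩
  · rw [pow_one, pow_two, h]; exact hz
  · rw [pow_succ, pow_one, pow_mul, pow_two, pow_two, h, hzz]

theorem ord_two {z : G} (hzz : z * z = 1) (hz : z ≠ 1) : orderOf z = 2 :=
  orderOf_eq_prime (by rw [pow_two, hzz]) hz

/-- an involution commuting with an element of odd order -/
theorem two_mul_odd {x z : G} {m : ℕ} (hzz : z * z = 1) (hz : z ≠ 1) (hx : orderOf x = m) (hm : Odd m)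
    (hc : x * z = z * x) : HasOrd G (2 * m) :=
  HasOrd.mul_of_commute (ord_two hzz hz) hx (show z * x = x * z from hc.symm) (Nat.coprime_two_left.2 hm)

theorem two_mul_of_cent {z : G} {m : ℕ} (hzz : z * z = 1) (hz : z ≠ 1) (hm : Odd m)
    (h : HasOrd (centralizer ({z} : Set G)) m) : HasOrd G (2 * m) := by
  obtain ⟨x, hx⟩ := h
  exact two_mul_odd hzz hz (x := (x : G)) (by rw [← hx, Subgroup.orderOf_coe]) hm (mem_centralizer_singleton_iff.1 x.2)

theorem two_mul_prime [Finite G] {z : G} {p : ℕ} (hzz : z * z = 1) (hz : z ≠ 1) (hp : p.Prime) (hp2 : p ≠ 2)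
    (h : p ∣ Nat.card (centralizer ({z} : Set G))) : HasOrd G (2 * p) :=
  two_mul_of_cent hzz hz (hp.odd_of_ne_two hp2) (hasOrd_prime hp h)

/-- no element of order four: the Sylow 2-subgroups are abelian -/
theorem comm_of_not_four [Finite G] (h : ¬ HasOrd G 4) (S : Sylow 2 G) :
    ∀ x ∈ S, ∀ y ∈ S, x * y = y * x := by
  have h2 : ∀ x ∈ S, x * x = 1 := by
    intro x hx
    obtain ⟨k, hk⟩ := IsPGroup.iff_orderOf.1 S.isPGroup' ⟨x, hx⟩
    rw [Subgroup.orderOf_mk] at hk
    rcases Nat.lt_or_ge k 2 with h1 | h1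
    · have h3 : x ^ 2 = 1 := by
        apply orderOf_dvd_iff_pow_eq_one.1
        rw [hk]
        exact pow_dvd_pow 2 (m := k) (n := 1) (by omega)
      rwa [pow_two] at h3
    · exfalso
      exact h (HasOrd.of_dvd ⟨x, hk⟩ (pow_dvd_pow 2 h1) (by positivity))
  intro x hx y hy
  have h3 := h2 _ (S.mul_mem hx hy)
  calc x * y = x⁻¹ * (x * x) * y * y * y⁻¹ := by group
    _ = (x⁻¹) * (y * y) * y⁻¹ := by rw [h2 x hx]; group
    _ = x⁻¹ * y⁻¹ := by rw [h2 y hy]; group
    _ = y * x := by
      have h4 : x⁻¹ = x := inv_eq_of_mul_eq_one_left (h2 x hx)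
      have h5 : y⁻¹ = y := inv_eq_of_mul_eq_one_left (h2 y hy)
      have h6 : (x * y)⁻¹ = x * y := inv_eq_of_mul_eq_one_left h3
      rw [mul_inv_rev, h4, h5] at h6
      rw [h4, h5, h6]

/-- an involution in the centre and the commutator subgroup -/
theorem four_of_central [Finite G] {z : G} (hzz : z * z = 1) (hz : z ≠ 1) (hzc : ∀ g, g * z = z * g)
    (hzK : z ∈ commutator G) : HasOrd G 4 := by
  by_contra h
  have : Fact (Nat.Prime 2) := ⟨Nat.prime_two⟩
  obtain ⟨S⟩ : Nonempty (Sylow 2 G) := inferInstance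
  have hS := comm_of_not_four h S
  let _ : CommGroup S := { (inferInstance : Group S) with mul_comm := fun a b => Subtype.ext (hS a a.2 b b.2) }
  let τ : G →* S := MonoidHom.transfer (MonoidHom.id S)
  have h1 : τ z = 1 := by
    have h2 : commutator G ≤ τ.ker := Abelianization.commutator_subset_ker τ
    exact h2 hzK
  have key : ∀ (k : ℕ) (g₀ : G), g₀⁻¹ * z ^ k * g₀ ∈ (S : Subgroup G) → g₀⁻¹ * z ^ k * g₀ = z ^ k := by
    intro k g₀ _
    have h3 : Commute g₀ z := hzc g₀
    rw [mul_assoc, ← (h3.pow_right k).eq, inv_mul_cancel_left]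
  have h4 : τ z = ⟨z ^ (S : Subgroup G).index, _⟩ := MonoidHom.transfer_eq_pow (MonoidHom.id S) z key
  rw [h1] at h4
  have h5 : z ^ (S : Subgroup G).index = 1 := (congrArg Subtype.val h4).symm
  have h6 := orderOf_dvd_of_pow_eq_one h5
  rw [ord_two hzz hz] at h6
  exact S.not_dvd_index h6

/-! ### two classes of involutions -/

/-- conjugate elements have centralizers of the same order -/
theorem card_conj {G : Type*} [Group G] {x y : G} (h : IsConj x y) :
    Nat.card (centralizer ({x} : Set G)) = Nat.card (centralizer ({y} : Set G)) := by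
  obtain ⟨c, hc⟩ := isConj_iff.1 h
  have h1 : (centralizer ({x} : Set G)).map (MulAut.conj c).toMonoidHom = centralizer ({y} : Set G) := by
    ext w
    rw [mem_centralizer_singleton_iff]
    constructor
    · rintro ⟨v, hv, rfl⟩
      have hv' := mem_centralizer_singleton_iff.1 hv
      show c * v * c⁻¹ * y = y * (c * v * c⁻¹)
      rw [← hc]
      calc c * v * c⁻¹ * (c * x * c⁻¹) = c * (v * x) * c⁻¹ := by group
        _ = c * (x * v) * c⁻¹ := by rw [hv']
        _ = c * x * c⁻¹ * (c * v * c⁻¹) := by group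
    · intro hw
      refine ⟨c⁻¹ * w * c, mem_centralizer_singleton_iff.2 ?_, ?_⟩
      · have hx : x = c⁻¹ * y * c := by rw [← hc]; group
        rw [hx]
        calc c⁻¹ * w * c * (c⁻¹ * y * c) = c⁻¹ * (w * y) * c := by group
          _ = c⁻¹ * (y * w) * c := by rw [hw]
          _ = c⁻¹ * y * c * (c⁻¹ * w * c) := by group
      · show c * (c⁻¹ * w * c) * c⁻¹ = w
        group
  rw [← h1]
  exact Nat.card_congr (equivMapOfInjective _ _ (MulAut.conj c).injective).toEquiv

theorem pow_conj {x y : G} (h : IsConj x y) (n : ℕ) : IsConj (x ^ n) (y ^ n) := by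
  obtain ⟨c, hc⟩ := isConj_iff.1 h
  exact isConj_iff.2 ⟨c, by rw [← hc, conj_pow]⟩

/-- **two classes of involutions**: `P` a set of odd primes dividing the orders of both centralizers, `A` a set of other
orders. -/
theorem count_two [Finite G] {t u : G} (tt : t * t = 1) (t1 : t ≠ 1) (uu : u * u = 1) (u1 : u ≠ 1)
    (hn : ¬ IsConj t u) (P A : Finset ℕ)
    (hP : ∀ p ∈ P, p.Prime ∧ p ≠ 2 ∧ p ∣ Nat.card (centralizer ({t} : Set G)) ∧
      p ∣ Nat.card (centralizer ({u} : Set G)))
    (hA : ∀ n ∈ A, HasOrd G n) (h2 : 2 ∉ A) (hPA : ∀ p ∈ P, 2 * p ∉ A) :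
    A.card + 2 * (P.card + 1) ≤ Nat.card (ConjClasses G) := by
  classical
  set B : Finset ℕ := insert 2 (P.image fun p => 2 * p) with hB
  have hBc : B.card = P.card + 1 := by
    rw [hB, Finset.card_insert_of_notMem, Finset.card_image_of_injective _ fun a b h => by simpa using h]
    intro h
    obtain ⟨p, hp, he⟩ := Finset.mem_image.1 h
    have := (hP p hp).1.one_lt
    omega
  have hdis : Disjoint A B := by
    rw [Finset.disjoint_left]
    intro n hnA hnB
    rw [hB, Finset.mem_insert, Finset.mem_image] at hnB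
    rcases hnB with rfl | ⟨p, hp, rfl⟩
    · exact h2 hnA
    · exact hPA p hp hnA
  have h1 := sum_le (G := G) (A ∪ B) (fun n => if n ∈ A then 1 else 2) ?_
  · rw [Finset.sum_union hdis, Finset.sum_congr rfl (g := fun _ => 1) fun n hn => if_pos hn,
      Finset.sum_congr (s₁ := B) rfl (g := fun _ => 2) fun n hn => if_neg fun h =>
        (Finset.disjoint_left.1 hdis) h hn] at h1
    simp only [Finset.sum_const, smul_eq_mul, mul_one, hBc] at h1
    omega
  · intro n hnAB
    rcases Finset.mem_union.1 hnAB with hnA | hnB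
    · obtain ⟨g, hg⟩ := hA n hnA
      exact ⟨[g], by rw [if_pos hnA]; rfl, by simpa using hg, by simp⟩
    · have hnA : n ∉ A := fun h => (Finset.disjoint_left.1 hdis) h hnB
      rw [hB, Finset.mem_insert, Finset.mem_image] at hnB
      rcases hnB with rfl | ⟨p, hp, rfl⟩
      · exact ⟨[t, u], by rw [if_neg hnA]; rfl, by simp [ord_two tt t1, ord_two uu u1], by simpa using hn⟩
      · obtain ⟨hpp, hp2, hpt, hpu⟩ := hP p hp
        obtain ⟨⟨a, hat⟩, ha⟩ := hasOrd_prime hpp hpt
        obtain ⟨⟨b, hbt⟩, hb⟩ := hasOrd_prime hpp hpu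
        rw [Subgroup.orderOf_mk] at ha hb
        have hat' : Commute t a := (mem_centralizer_singleton_iff.1 hat).symm
        have hbt' : Commute u b := (mem_centralizer_singleton_iff.1 hbt).symm
        have hodd := hpp.odd_of_ne_two hp2
        obtain ⟨m, hm⟩ := hodd
        have hpow : ∀ {z c : G}, z * z = 1 → orderOf c = p → Commute z c → (z * c) ^ p = z := by
          intro z c hz hc hzc
          rw [hzc.mul_pow]
          have h3 : c ^ p = 1 := by rw [← hc, pow_orderOf_eq_one]
          rw [h3, mul_one, hm, pow_succ, pow_mul, pow_two, hz, one_pow, one_mul]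
        have hord : ∀ {z c : G}, z * z = 1 → z ≠ 1 → orderOf c = p → Commute z c → orderOf (z * c) = 2 * p := by
          intro z c hz hz1 hc hzc
          rw [hzc.orderOf_mul_eq_mul_orderOf_of_coprime (by
            rw [ord_two hz hz1, hc]; exact (Nat.coprime_primes Nat.prime_two hpp).2 (Ne.symm hp2)), ord_two hz hz1, hc]
        refine ⟨[t * a, u * b], by rw [if_neg hnA]; rfl, ?_, ?_⟩
        · simp [hord tt t1 ha hat', hord uu u1 hb hbt']
        · simp only [List.pairwise_cons, List.mem_singleton, forall_eq, List.not_mem_nil, false_imp_iff,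
            implies_true, List.Pairwise.nil, and_true]
          intro hc
          have h4 := pow_conj hc p
          rw [hpow tt ha hat', hpow uu hb hbt'] at h4
          exact hn h4

/-- elements of order 5, no element of order 4 -/
theorem not_conj_five [Finite G] (h4 : ¬ HasOrd G 4) {x : G} (hx : orderOf x = 5) {j : ℕ}
    (hj : j % 5 = 2 ∨ j % 5 = 3) : ¬ IsConj x (x ^ j) := by
  intro h
  obtain ⟨g, hg⟩ := isConj_iff.1 h
  have hpow : ∀ k : ℕ, g ^ k * x * (g ^ k)⁻¹ = x ^ (j ^ k) := by
    intro k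
    induction k with
    | zero => simp
    | succ k ih =>
      rw [pow_succ', mul_inv_rev]
      calc g * g ^ k * x * ((g ^ k)⁻¹ * g⁻¹) = g * (g ^ k * x * (g ^ k)⁻¹) * g⁻¹ := by group
        _ = g * x ^ (j ^ k) * g⁻¹ := by rw [ih]
        _ = (g * x * g⁻¹) ^ (j ^ k) := by rw [conj_pow]
        _ = x ^ (j ^ (k + 1)) := by rw [hg, ← pow_mul, ← pow_succ']
  obtain ⟨a, m, hm, he⟩ := Nat.exists_eq_two_pow_mul_odd (orderOf_pos g).ne'
  have ha : a ≤ 1 := by
    by_contra hlt
    refine h4 (HasOrd.of_dvd ⟨g, rfl⟩ ?_ (orderOf_pos g).ne')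
    rw [he]
    exact Dvd.dvd.mul_right (pow_dvd_pow 2 (by omega : 2 ≤ a)) m
  have h1 : g ^ (2 * m) = 1 := by
    apply orderOf_dvd_iff_pow_eq_one.1
    rw [he]
    exact Nat.mul_dvd_mul_right (pow_dvd_pow 2 (n := 1) ha) m
  have h2 := hpow (2 * m)
  rw [h1, inv_one, one_mul, mul_one] at h2
  have h3 : j ^ (2 * m) ≡ 1 [MOD 5] := by
    have h5 : x ^ (j ^ (2 * m)) = x ^ 1 := by rw [← h2, pow_one]
    have := pow_eq_pow_iff_modEq.1 h5
    rwa [hx] at this
  have h4' : j ^ 2 ≡ 4 [MOD 5] := by
    have h5 : j ≡ j % 5 [MOD 5] := (Nat.mod_modEq j 5).symm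
    rcases hj with hj | hj
    · rw [hj] at h5
      exact h5.pow 2
    · rw [hj] at h5
      exact (h5.pow 2).trans (by decide)
  rw [pow_mul] at h3
  have h5 := (h4'.pow m).symm.trans h3
  obtain ⟨k, rfl⟩ := hm
  have h6 : (4 : ℕ) ^ (2 * k + 1) ≡ 4 [MOD 5] := by
    rw [pow_succ, pow_mul]
    have : (4 ^ 2) ^ k ≡ 1 ^ k [MOD 5] := Nat.ModEq.pow k (by decide)
    rw [one_pow] at this
    exact (this.mul_right 4)
  have h7 := h6.symm.trans h5
  exact absurd h7 (by decide)

/-! ### permutations -/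

theorem hasOrd_alt {n m : ℕ} {x : Equiv.Perm (Fin n)} (hs : Equiv.Perm.sign x = 1) (h0 : 0 < m) (hx : x ^ m = 1)
    (h : ∀ p ∈ m.primeFactors, x ^ (m / p) ≠ 1) : HasOrd (alternatingGroup (Fin n)) m := by
  refine hasOrd_of_pow (x := ⟨x, Equiv.Perm.mem_alternatingGroup.2 hs⟩) h0 (Subtype.ext hx) ?_
  intro p hp hc
  exact h p hp (congrArg Subtype.val hc)

end Cfsg.Agent.H771.KTools
end

-- part: H674/SUTools
section
set_option linter.all false
open scoped Cfsg.Agent.FastGrp

/-!
# Tools for conjugacy classes of `SU_n(q)`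

The monoid homomorphism `cm` to matrices, conjugation invariants (trace, charpoly), the constructor `mkSU`
of elements from matrices, and the comparison of class numbers of `SU_n(q)` and `PSU_n(q)`.
-/

set_option autoImplicit false
open Cfsg

namespace Cfsg.Agent.H674.SUTools

open Matrix Cfsg.Agent.H92 Cfsg.Agent.LieClassical

variable {F : Type*} [Field F] {n q : ℕ}

/-- the matrix of an element of `SU_n(q)` -/
def cm : Cfsg.SU n F q →* Matrix (Fin n) (Fin n) F :=
  (Matrix.SpecialLinearGroup.coeMonoidHom).comp (Cfsg.SU n F q).subtype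

theorem cm_injective : Function.Injective (cm : Cfsg.SU n F q →* Matrix (Fin n) (Fin n) F) :=
  (Matrix.SpecialLinearGroup.coeMonoidHom_injective).comp Subtype.val_injective

theorem det_cm (x : Cfsg.SU n F q) : (cm x).det = 1 := (x : Matrix.SpecialLinearGroup (Fin n) F).2

theorem cm_eq_one_iff (x : Cfsg.SU n F q) : cm x = 1 ↔ x = 1 := by
  rw [← map_one (cm : Cfsg.SU n F q →* Matrix (Fin n) (Fin n) F)]
  exact cm_injective.eq_iff

theorem cm_pow_eq_one_iff (x : Cfsg.SU n F q) (k : ℕ) : cm x ^ k = 1 ↔ x ^ k = 1 := by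
  rw [← map_pow, cm_eq_one_iff]

theorem orderOf_cm (x : Cfsg.SU n F q) : orderOf (cm x) = orderOf x :=
  orderOf_injective _ cm_injective x

/-- conjugate elements have similar matrices -/
theorem exists_similar {x y : Cfsg.SU n F q} (h : IsConj x y) :
    ∃ P Q : Matrix (Fin n) (Fin n) F, P * Q = 1 ∧ Q * P = 1 ∧ cm y = P * cm x * Q := by
  obtain ⟨c, hc⟩ := isConj_iff.1 h
  refine ⟨cm c, cm c⁻¹, ?_, ?_, ?_⟩
  · rw [← map_mul, mul_inv_cancel, map_one]
  · rw [← map_mul, inv_mul_cancel, map_one]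
  · rw [← hc, map_mul, map_mul]

theorem trace_eq_of_isConj {x y : Cfsg.SU n F q} (h : IsConj x y) : (cm x).trace = (cm y).trace := by
  obtain ⟨P, Q, h1, h2, h3⟩ := exists_similar h
  rw [h3, Matrix.trace_mul_cycle, h2, one_mul]

theorem charpoly_eq_of_isConj {x y : Cfsg.SU n F q} (h : IsConj x y) :
    (cm x).charpoly = (cm y).charpoly := by
  obtain ⟨P, Q, h1, h2, h3⟩ := exists_similar h
  rw [h3, Matrix.charpoly_mul_comm, ← mul_assoc, h2, one_mul]

theorem pow_eq_one_iff_of_isConj {x y : Cfsg.SU n F q} (h : IsConj x y) (k : ℕ) :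
    cm x ^ k = 1 ↔ cm y ^ k = 1 := by
  rw [cm_pow_eq_one_iff, cm_pow_eq_one_iff]
  obtain ⟨c, hc⟩ := isConj_iff.1 h
  rw [← hc, conj_pow]
  constructor
  · intro h1; rw [h1]; simp
  · intro h1
    have : x ^ k = c⁻¹ * (c * x ^ k * c⁻¹) * c := by group
    rw [this, h1]; simp

variable [Fintype F]

/-- an element of `SU_n(q)` from a matrix -/
def mkSU (hF : Fintype.card F = q ^ 2) (M : Matrix (Fin n) (Fin n) F) (h1 : M.det = 1)
    (h2 : Mᵀ * M.map (GUOrder.frob hF) = 1) : Cfsg.SU n F q :=
  ⟨⟨M, h1⟩, (GUOrder.mul_map_eq_one_iff hF M).2 h2⟩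

theorem cm_mkSU (hF : Fintype.card F = q ^ 2) (M : Matrix (Fin n) (Fin n) F) (h1 : M.det = 1)
    (h2 : Mᵀ * M.map (GUOrder.frob hF) = 1) : cm (mkSU hF M h1 h2) = M := rfl

theorem cm_isom (hF : Fintype.card F = q ^ 2) (x : Cfsg.SU n F q) :
    (cm x)ᵀ * (cm x).map (GUOrder.frob hF) = 1 :=
  (GUOrder.mul_map_eq_one_iff hF (cm x)).1 x.2

/-- `k(SU_n(q)) ≤ gcd(n, q+1) k(PSU_n(q))` -/
theorem card_classes_le (hF : Fintype.card F = q ^ 2) (hn : 3 ≤ n) :
    Nat.card (ConjClasses (Cfsg.SU n F q)) ≤ Nat.gcd n (q + 1) * Nat.card (ConjClasses (Cfsg.PSU n F q)) := by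
  classical
  have h1 := KTools.card_le_mul_quotient (G := Cfsg.SU n F q) (Subgroup.center (Cfsg.SU n F q)) le_rfl
  rw [Cfsg.Agent.S0279.result hF n hn] at h1
  exact h1

end Cfsg.Agent.H674.SUTools
end

-- part: H525/AltK
section
prune_inst 0x5300000150000000000800230001c42b2000432004b00005120040405c65e6100c02621f0200f1203009e25003f8040001000590000000000008200411c04818422f2c60300b104210007c0f803180c00000000000000000000000000041000200000000
set_option linter.all false
open scoped Cfsg.Agent.FastGrp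

/-!
# Numbers of conjugacy classes of alternating groups (bounds)

`alt_ge`: `k(A_n) ≥ 12` for `n ≥ 8`; `alt_five`, `alt_six`, `alt_seven`: `k(A_5) ≤ 5`, `k(A_6) ≤ 7`, `k(A_7) ≤ 9`.
-/

set_option autoImplicit false

namespace Cfsg.Agent.H525.AltK

open Equiv Equiv.Perm

section General

variable {α : Type*} [Fintype α] [DecidableEq α]

theorem even_of_mem (g : alternatingGroup α) :
    Even ((g : Perm α).cycleType.sum + Multiset.card (g : Perm α).cycleType) := by
  have h := sign_of_cycleType (g : Perm α)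
  have h2 : sign (g : Perm α) = 1 := g.2
  rw [h2] at h
  by_contra hodd
  rw [Nat.not_even_iff_odd] at hodd
  rw [hodd.neg_one_pow] at h
  exact absurd h (by decide)

/-- The label of an even permutation: its cycle type and the side on which it lies w.r.t. a chosen representative. -/
noncomputable def label (g : alternatingGroup α) : Multiset ℕ × Bool :=
  haveI : Decidable (∃ x ∈ alternatingGroup α,
    x * (Function.invFun (fun s : Perm α => s.cycleType) (g : Perm α).cycleType) * x⁻¹ = (g : Perm α)) :=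
      Classical.dec _
  ((g : Perm α).cycleType, decide (∃ x ∈ alternatingGroup α,
    x * (Function.invFun (fun s : Perm α => s.cycleType) (g : Perm α).cycleType) * x⁻¹ = (g : Perm α)))

theorem inv_spec (g : Perm α) :
    (Function.invFun (fun s : Perm α => s.cycleType) g.cycleType).cycleType = g.cycleType :=
  Function.invFun_eq (f := fun s : Perm α => s.cycleType) ⟨g, rfl⟩

theorem conj_of_label {g h : alternatingGroup α} (hl : label g = label h) : IsConj g h := by
  classical
  obtain ⟨h1, h2⟩ := Prod.mk.injEq _ _ _ _ ▸ hl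
  set r : Perm α := Function.invFun (fun s : Perm α => s.cycleType) (g : Perm α).cycleType with hr
  have hr' : Function.invFun (fun s : Perm α => s.cycleType) (h : Perm α).cycleType = r := by rw [hr, h1]
  rw [hr', decide_eq_decide] at h2
  have hg : IsConj r (g : Perm α) := isConj_iff_cycleType_eq.2 (inv_spec _)
  have hh : IsConj r (h : Perm α) := isConj_iff_cycleType_eq.2 (by rw [hr, inv_spec, h1])
  obtain ⟨x, hx⟩ := isConj_iff.1 hg
  obtain ⟨y, hy⟩ := isConj_iff.1 hh
  by_cases hc : ∃ x ∈ alternatingGroup α, x * r * x⁻¹ = (g : Perm α)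
  · obtain ⟨y', hy', hy2⟩ := h2.1 hc
    obtain ⟨x', hx', hx2⟩ := hc
    refine isConj_iff.2 ⟨⟨y' * x'⁻¹, mul_mem hy' (inv_mem hx')⟩, Subtype.ext ?_⟩
    show y' * x'⁻¹ * (g : Perm α) * (y' * x'⁻¹)⁻¹ = h
    rw [← hx2, ← hy2]
    group
  · have hc' : ¬ ∃ x ∈ alternatingGroup α, x * r * x⁻¹ = (h : Perm α) := fun h3 => hc (h2.2 h3)
    have hxo : sign x = -1 := by
      rcases Int.units_eq_one_or (sign x) with h3 | h3
      · exact absurd ⟨x, h3, hx⟩ hc
      · exact h3
    have hyo : sign y = -1 := by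
      rcases Int.units_eq_one_or (sign y) with h3 | h3
      · exact absurd ⟨y, h3, hy⟩ hc'
      · exact h3
    refine isConj_iff.2 ⟨⟨y * x⁻¹, ?_⟩, Subtype.ext ?_⟩
    · rw [mem_alternatingGroup, map_mul, map_inv, hxo, hyo]; rfl
    · show y * x⁻¹ * (g : Perm α) * (y * x⁻¹)⁻¹ = h
      rw [← hx, ← hy]
      group

/-- if the label is `(m, false)` then the class splits: all parts are odd, distinct, and cover all points but at most one. -/
theorem split_of_label {g : alternatingGroup α} (hl : (label g).2 = false) :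
    (∀ c ∈ (g : Perm α).cycleType, Odd c) ∧ Fintype.card α ≤ (g : Perm α).cycleType.sum + 1 ∧
      ∀ i, (g : Perm α).cycleType.count i ≤ 1 := by
  classical
  rw [← centralizer_le_alternating_iff]
  intro c hc
  by_contra hcon
  have hco : sign c = -1 := by
    rcases Int.units_eq_one_or (sign c) with h3 | h3
    · exact absurd h3 hcon
    · exact h3
  unfold label at hl
  simp only [decide_eq_false_iff_not] at hl
  have hg : IsConj (Function.invFun (fun s : Perm α => s.cycleType) (g : Perm α).cycleType) (g : Perm α) :=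
    isConj_iff_cycleType_eq.2 (inv_spec _)
  obtain ⟨x, hx⟩ := isConj_iff.1 hg
  apply hl
  rcases Int.units_eq_one_or (sign x) with h3 | h3
  · exact ⟨x, h3, hx⟩
  · refine ⟨c * x, ?_, ?_⟩
    · rw [mem_alternatingGroup, map_mul, h3, hco]; rfl
    · have h4 : c * (g : Perm α) = g * c := by
        have := Subgroup.mem_centralizer_iff.1 hc g rfl
        exact this.symm
      calc c * x * _ * (c * x)⁻¹ = c * (x * Function.invFun (fun s : Perm α => s.cycleType) (g : Perm α).cycleType * x⁻¹) * c⁻¹ := by group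
        _ = c * g * c⁻¹ := by rw [hx]
        _ = g := by rw [h4]; group

/-- Upper bound for the number of classes: the labels lie in a finite set. -/
theorem card_classes_le (S : Finset (Multiset ℕ × Bool)) (hS : ∀ g : alternatingGroup α, label g ∈ S) :
    Nat.card (ConjClasses (alternatingGroup α)) ≤ S.card := by
  classical
  have h1 : Function.Injective (fun c : ConjClasses (alternatingGroup α) =>
      (⟨label (Quotient.out c), hS _⟩ : S)) := by
    intro c d hcd
    have h2 := conj_of_label (Subtype.ext_iff.1 hcd)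
    have h3 := ConjClasses.mk_eq_mk_iff_isConj.2 h2
    rwa [show ConjClasses.mk (Quotient.out c) = c from Quotient.out_eq c,
      show ConjClasses.mk (Quotient.out d) = d from Quotient.out_eq d] at h3
  have h4 := Nat.card_le_card_of_injective _ h1
  rwa [Nat.card_eq_fintype_card (α := S), Fintype.card_coe] at h4

end General

/-- the possible even cycle types for `n ≤ 7`. -/
theorem types (m : Multiset ℕ) (h2 : ∀ a ∈ m, 2 ≤ a) (hs : m.sum ≤ 7) (he : Even (m.sum + Multiset.card m)) :
    m = 0 ∨ m = {3} ∨ m = {5} ∨ m = {7} ∨ m = {2, 2} ∨ m = {3, 3} ∨ m = {4, 2} ∨ m = {3, 2, 2} := by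
  have hc : 2 * Multiset.card m ≤ m.sum := by
    have := Multiset.card_nsmul_le_sum (s := m) (a := 2) (by simpa using h2)
    simpa [mul_comm] using this
  have hc3 : Multiset.card m ≤ 3 := by omega
  rcases Nat.lt_or_ge (Multiset.card m) 1 with h0 | h0
  · left; exact Multiset.card_eq_zero.1 (by omega)
  rcases Nat.lt_or_ge (Multiset.card m) 2 with h1 | h1
  · obtain ⟨a, rfl⟩ := Multiset.card_eq_one.1 (show Multiset.card m = 1 by omega)
    simp only [_root_.Multiset.mem_singleton, _root_.forall_eq, _root_.Multiset.sum_singleton, _root_.Multiset.card_singleton] at h2 hs he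
    interval_cases a <;> simp_all only [_root_.Multiset.card_singleton, _root_.mul_one, _root_.Multiset.sum_singleton, _root_.Std.le_refl, _root_.Nat.one_le_ofNat, _root_.ge_iff_le, _root_.Order.lt_two_iff, _root_.Nat.reduceLeDiff, _root_.Nat.reduceAdd, _root_.Multiset.singleton_ne_zero, _root_.Multiset.singleton_inj, _root_.Nat.reduceEqDiff, _root_.Multiset.insert_eq_cons, _root_.Multiset.singleton_eq_cons_iff, _root_.and_false, _root_.and_self, _root_.Multiset.cons_ne_zero, _root_.or_self, _root_.Nat.succ_ne_self, _root_.or_false, _root_.or_true] <;> revert he <;> decide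
  rcases Nat.lt_or_ge (Multiset.card m) 3 with h3 | h3
  · obtain ⟨a, b, rfl⟩ := Multiset.card_eq_two.1 (show Multiset.card m = 2 by omega)
    simp only [_root_.Multiset.insert_eq_cons, _root_.Multiset.mem_cons, _root_.Multiset.mem_singleton, _root_.forall_eq_or_imp, _root_.forall_eq, _root_.Multiset.sum_cons, _root_.Multiset.sum_singleton, _root_.Multiset.card_cons, _root_.Multiset.card_singleton, _root_.Nat.reduceAdd] at h2 hs he
    obtain ⟨ha, hb⟩ := h2
    have ha5 : a ≤ 5 := by omega
    have hb5 : b ≤ 5 := by omega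
    interval_cases a <;> interval_cases b <;> first | (clear * - hs; omega) | (exfalso; revert he; decide) | decide
  · obtain ⟨a, b, c, rfl⟩ := Multiset.card_eq_three.1 (show Multiset.card m = 3 by omega)
    simp only [_root_.Multiset.insert_eq_cons, _root_.Multiset.mem_cons, _root_.Multiset.mem_singleton, _root_.forall_eq_or_imp, _root_.forall_eq, _root_.Multiset.sum_cons, _root_.Multiset.sum_singleton, _root_.Multiset.card_cons, _root_.Multiset.card_singleton, _root_.Nat.reduceAdd] at h2 hs he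
    obtain ⟨ha, hb, hc⟩ := h2
    have ha5 : a ≤ 3 := by omega
    have hb5 : b ≤ 3 := by omega
    have hc5 : c ≤ 3 := by omega
    interval_cases a <;> interval_cases b <;> interval_cases c <;> first | omega | (exfalso; revert he; decide) | decide


theorem mem_types {n : ℕ} (hn : n ≤ 7) (g : alternatingGroup (Fin n)) :
    (g : Perm (Fin n)).cycleType = 0 ∨ (g : Perm (Fin n)).cycleType = {3} ∨ (g : Perm (Fin n)).cycleType = {5} ∨
      (g : Perm (Fin n)).cycleType = {7} ∨ (g : Perm (Fin n)).cycleType = {2, 2} ∨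
      (g : Perm (Fin n)).cycleType = {3, 3} ∨ (g : Perm (Fin n)).cycleType = {4, 2} ∨
      (g : Perm (Fin n)).cycleType = {3, 2, 2} := by
  refine types _ (fun a ha => two_le_of_mem_cycleType ha) ?_ (even_of_mem g)
  have := sum_cycleType_le (g : Perm (Fin n))
  rw [Fintype.card_fin] at this
  omega

/-- Upper bound from the list of types `l` and the list of split types `l'`. -/
theorem card_classes_le' {n : ℕ} (hn : n ≤ 7) (l l' : Finset (Multiset ℕ))
    (h1 : ∀ m ∈ ({0, {3}, {5}, {7}, {2, 2}, {3, 3}, {4, 2}, {3, 2, 2}} : Finset (Multiset ℕ)), m.sum ≤ n → m ∈ l)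
    (h2 : ∀ m ∈ ({0, {3}, {5}, {7}, {2, 2}, {3, 3}, {4, 2}, {3, 2, 2}} : Finset (Multiset ℕ)),
      m.sum ≤ n → (∀ c ∈ m, Odd c) → n ≤ m.sum + 1 → m.Nodup → m ∈ l') :
    Nat.card (ConjClasses (alternatingGroup (Fin n))) ≤ l.card + l'.card := by
  classical
  refine (card_classes_le (l ×ˢ {true} ∪ l' ×ˢ {false}) ?_).trans ?_
  · intro g
    have hm : (g : Perm (Fin n)).cycleType ∈ ({0, {3}, {5}, {7}, {2, 2}, {3, 3}, {4, 2}, {3, 2, 2}} : Finset (Multiset ℕ)) := by
      have := mem_types hn g
      simpa only [Finset.mem_insert, Finset.mem_singleton] using this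
    have hs : (g : Perm (Fin n)).cycleType.sum ≤ n := by
      have := sum_cycleType_le (g : Perm (Fin n))
      rwa [Fintype.card_fin] at this
    have h3 : label g = ((g : Perm (Fin n)).cycleType, (label g).2) := rfl
    rcases hb : (label g).2 with _ | _
    · obtain ⟨h4, h5, h6⟩ := split_of_label hb
      rw [Fintype.card_fin] at h5
      rw [h3, hb]
      simp [h2 _ hm hs h4 h5 (Multiset.nodup_iff_count_le_one.2 h6)]
    · rw [h3, hb]
      simp [h1 _ hm hs]
  · refine (Finset.card_union_le _ _).trans ?_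
    simp

theorem alt_seven : Nat.card (ConjClasses (alternatingGroup (Fin 7))) ≤ 9 :=
  (card_classes_le' (le_refl 7) {0, {3}, {5}, {7}, {2, 2}, {3, 3}, {4, 2}, {3, 2, 2}} {{7}}
    (by decide +kernel) (by decide +kernel)).trans (by decide)

theorem alt_six : Nat.card (ConjClasses (alternatingGroup (Fin 6))) ≤ 7 :=
  (card_classes_le' (by norm_num) {0, {3}, {5}, {2, 2}, {3, 3}, {4, 2}} {{5}}
    (by decide +kernel) (by decide +kernel)).trans (by decide)

theorem alt_five : Nat.card (ConjClasses (alternatingGroup (Fin 5))) ≤ 5 :=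
  (card_classes_le' (by norm_num) {0, {3}, {5}, {2, 2}} {{5}}
    (by decide) (by decide +kernel)).trans (by decide)

theorem alt_ge {n : ℕ} (hn : 8 ≤ n) : 12 ≤ Nat.card (ConjClasses (alternatingGroup (Fin n))) := by
  classical
  have h := H92.KTools.range_le (G := alternatingGroup (Fin n)) (fun g => (g : Perm (Fin n)).cycleType)
    (fun x y hxy => ?_) (({0, {2, 2}, {2, 2, 2, 2}, {3}, {3, 3}, {3, 2, 2}, {4, 2}, {4, 4}, {5}, {5, 3}, {6, 2}, {7}} :
      Finset (Multiset ℕ)) : Set (Multiset ℕ)) ?_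
  · rw [Set.ncard_coe_finset] at h
    exact le_trans (by decide +kernel) h
  · obtain ⟨c, hc⟩ := isConj_iff.1 hxy
    refine isConj_iff_cycleType_eq.1 (isConj_iff.2 ⟨(c : Perm (Fin n)), ?_⟩)
    rw [← hc]; rfl
  · intro m hm
    have h1 : (∀ a ∈ m, 2 ≤ a) ∧ m.sum ≤ 8 ∧ Even (m.sum + Multiset.card m) := by
      rw [Finset.mem_coe] at hm
      revert m
      decide +kernel
    obtain ⟨g, hg⟩ := (exists_with_cycleType_iff (Fin n)).2 ⟨by rw [Fintype.card_fin]; omega, h1.1⟩
    refine ⟨⟨g, ?_⟩, hg⟩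
    rw [mem_alternatingGroup, sign_of_cycleType, hg, h1.2.2.neg_one_pow]

end Cfsg.Agent.H525.AltK
end

-- part: H674/SUBlock
section
set_option linter.all false
open scoped Cfsg.Agent.FastGrp

/-!
# Block diagonal elements of `SU_n(q)`

`blk A B` is the block diagonal matrix; `ext k : SU_d(q) → SU_{d+k}(q)`, injective modulo the centre if `0 < k`.
-/

set_option autoImplicit false
open Cfsg

namespace Cfsg.Agent.H674.SUBlock

open Matrix Polynomial Cfsg.Agent.H92 Cfsg.Agent.LieClassical Cfsg.Agent.H674.SUTools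

variable {F : Type*} [Field F] {d k q : ℕ}

/-- the block diagonal matrix -/
def blk (A : Matrix (Fin d) (Fin d) F) (B : Matrix (Fin k) (Fin k) F) : Matrix (Fin (d + k)) (Fin (d + k)) F :=
  Matrix.reindex finSumFinEquiv finSumFinEquiv (Matrix.fromBlocks A 0 0 B)

theorem blk_one : blk (1 : Matrix (Fin d) (Fin d) F) (1 : Matrix (Fin k) (Fin k) F) = 1 := by
  rw [blk, Matrix.fromBlocks_one]
  simp

theorem blk_mul (A A' : Matrix (Fin d) (Fin d) F) (B B' : Matrix (Fin k) (Fin k) F) :
    blk (A * A') (B * B') = blk A B * blk A' B' := by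
  simp only [blk, Matrix.reindex_apply]
  rw [Matrix.submatrix_mul_equiv, Matrix.fromBlocks_multiply]
  simp

theorem det_blk (A : Matrix (Fin d) (Fin d) F) (B : Matrix (Fin k) (Fin k) F) :
    (blk A B).det = A.det * B.det := by
  rw [blk, Matrix.det_reindex_self, Matrix.det_fromBlocks_zero₁₂]

theorem charpoly_blk (A : Matrix (Fin d) (Fin d) F) (B : Matrix (Fin k) (Fin k) F) :
    (blk A B).charpoly = A.charpoly * B.charpoly := by
  rw [blk, Matrix.charpoly_reindex, Matrix.charpoly_fromBlocks_zero₁₂]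

theorem transpose_blk (A : Matrix (Fin d) (Fin d) F) (B : Matrix (Fin k) (Fin k) F) :
    (blk A B)ᵀ = blk Aᵀ Bᵀ := by
  rw [blk, blk, Matrix.transpose_reindex, Matrix.fromBlocks_transpose]
  simp

theorem map_blk {K : Type*} [Field K] (f : F →+* K) (A : Matrix (Fin d) (Fin d) F) (B : Matrix (Fin k) (Fin k) F) :
    (blk A B).map f = blk (A.map f) (B.map f) := by
  rw [blk, blk, Matrix.reindex_apply, Matrix.reindex_apply, ← Matrix.submatrix_map, Matrix.fromBlocks_map]
  congr 2 <;> ext i j <;> simp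

theorem blk_inj {A A' : Matrix (Fin d) (Fin d) F} {B B' : Matrix (Fin k) (Fin k) F} (h : blk A B = blk A' B') :
    A = A' ∧ B = B' := by
  have h1 := (Matrix.reindex finSumFinEquiv finSumFinEquiv).injective h
  rw [Matrix.fromBlocks_inj] at h1
  exact ⟨h1.1, h1.2.2.2⟩

theorem blk_castAdd (A : Matrix (Fin d) (Fin d) F) (B : Matrix (Fin k) (Fin k) F) (i j : Fin d) :
    blk A B (Fin.castAdd k i) (Fin.castAdd k j) = A i j := by
  simp [blk]

theorem blk_natAdd (A : Matrix (Fin d) (Fin d) F) (B : Matrix (Fin k) (Fin k) F) (i j : Fin k) :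
    blk A B (Fin.natAdd d i) (Fin.natAdd d j) = B i j := by
  simp [blk]

variable [Fintype F]

theorem isom_blk (hF : Fintype.card F = q ^ 2) {A : Matrix (Fin d) (Fin d) F} {B : Matrix (Fin k) (Fin k) F}
    (hA : Aᵀ * A.map (GUOrder.frob hF) = 1) (hB : Bᵀ * B.map (GUOrder.frob hF) = 1) :
    (blk A B)ᵀ * (blk A B).map (GUOrder.frob hF) = 1 := by
  rw [transpose_blk, map_blk, ← blk_mul, hA, hB, blk_one]

theorem isom_one (hF : Fintype.card F = q ^ 2) :
    (1 : Matrix (Fin k) (Fin k) F)ᵀ * (1 : Matrix (Fin k) (Fin k) F).map (GUOrder.frob hF) = 1 := by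
  rw [Matrix.transpose_one, one_mul, Matrix.map_one _ (map_zero _) (map_one _)]

/-- `SU_d(q) → SU_{d+k}(q)` -/
def ext (hF : Fintype.card F = q ^ 2) (k : ℕ) : Cfsg.SU d F q →* Cfsg.SU (d + k) F q where
  toFun x := mkSU hF (blk (cm x) (1 : Matrix (Fin k) (Fin k) F)) (by rw [det_blk, det_cm, Matrix.det_one, one_mul])
    (isom_blk hF (cm_isom hF x) (isom_one hF))
  map_one' := by
    apply cm_injective
    rw [cm_mkSU, map_one, blk_one, map_one]
  map_mul' x y := by
    apply cm_injective
    rw [cm_mkSU, map_mul, map_mul, cm_mkSU, cm_mkSU, ← blk_mul, one_mul]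

theorem cm_ext (hF : Fintype.card F = q ^ 2) (x : Cfsg.SU d F q) :
    cm (ext hF k x) = blk (cm x) (1 : Matrix (Fin k) (Fin k) F) := rfl

theorem ext_injective (hF : Fintype.card F = q ^ 2) :
    Function.Injective (ext hF k : Cfsg.SU d F q →* Cfsg.SU (d + k) F q) := by
  intro x y h
  have h1 := congrArg cm h
  rw [cm_ext, cm_ext] at h1
  exact cm_injective (blk_inj h1).1

theorem charpoly_of_isConj_ext (hF : Fintype.card F = q ^ 2) {x y : Cfsg.SU d F q}
    (h : IsConj (ext hF k x) (ext hF k y)) : (cm x).charpoly = (cm y).charpoly := by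
  have h1 := charpoly_eq_of_isConj h
  rw [cm_ext, cm_ext, charpoly_blk, charpoly_blk] at h1
  refine mul_right_cancel₀ ?_ h1
  exact (Matrix.charpoly_monic _).ne_zero

/-- the projection `SU_n(q) → PSU_n(q)` -/
def pr : Cfsg.SU d F q →* Cfsg.PSU d F q := QuotientGroup.mk' _

omit [Fintype F] in
theorem pr_surjective : Function.Surjective (pr : Cfsg.SU d F q →* Cfsg.PSU d F q) :=
  QuotientGroup.mk'_surjective _

omit [Fintype F] in
theorem pr_eq_one_iff (x : Cfsg.SU d F q) : pr x = 1 ↔ x ∈ Subgroup.center (Cfsg.SU d F q) :=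
  QuotientGroup.eq_one_iff x

theorem eq_one_of_ext_mem_center (hF : Fintype.card F = q ^ 2) (hn : 3 ≤ d + k) (hk : 0 < k)
    {x : Cfsg.SU d F q} (h : ext hF k x ∈ Subgroup.center (Cfsg.SU (d + k) F q)) : x = 1 := by
  obtain ⟨c, hc1, hc2, h1⟩ := (SUBasic.mem_center_SU_iff hF hn _).1 h
  have h2 : blk (cm x) (1 : Matrix (Fin k) (Fin k) F) = Matrix.diagonal (fun _ => c) := congrArg cm h1
  have h3 : c = 1 := by
    have h4 := congrFun (congrFun h2 (Fin.natAdd d ⟨0, hk⟩)) (Fin.natAdd d ⟨0, hk⟩)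
    rw [blk_natAdd, Matrix.one_apply_eq, Matrix.diagonal_apply_eq] at h4
    exact h4.symm
  rw [← cm_eq_one_iff]
  subst h3
  have h5 : (Matrix.diagonal (fun _ => (1 : F)) : Matrix (Fin (d + k)) (Fin (d + k)) F) = 1 := Matrix.diagonal_one
  rw [h5, ← blk_one] at h2
  exact (blk_inj h2).1

/-- `SU_d(q)` embeds in `PSU_{d+k}(q)`, `0 < k` -/
theorem pr_ext_injective (hF : Fintype.card F = q ^ 2) (hn : 3 ≤ d + k) (hk : 0 < k) :
    Function.Injective ((pr : Cfsg.SU (d + k) F q →* Cfsg.PSU (d + k) F q).comp (ext hF k : Cfsg.SU d F q →* _)) := by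
  rw [injective_iff_map_eq_one]
  intro x hx
  exact eq_one_of_ext_mem_center hF hn hk ((pr_eq_one_iff _).1 hx)

end Cfsg.Agent.H674.SUBlock

private theorem dce_3a98adce688d : _root_.True := by
  try have : _root_.True := by simp only [_root_.Cfsg.Agent.H674.SUBlock.blk.eq_1]
  exact _root_.True.intro
end

-- part: H93/PslCharpoly
section
prune_inst 0x40510200434000000000080103000002030000032004000002140010001418240808000000a0001100204920108010008110000500200000000000000000405218002c20482080000000007000000000000000000000000000000000000000000200000000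
set_option linter.all false
open scoped Cfsg.Agent.FastGrp

set_option autoImplicit false

/-! # Lower bounds for the class numbers of `SL_n(F)` and `PSL_n(F)` by characteristic polynomials -/

namespace Cfsg.Agent.H93.PslCharpoly

open Matrix Polynomial

variable {F : Type*} [Field F]

/-- the characteristic polynomial is a class function on `SL_n(F)`. -/
theorem charpoly_eq_of_isConj {ι : Type*} [Fintype ι] [DecidableEq ι]
    {x y : _root_.Matrix.SpecialLinearGroup ι F} (h : IsConj x y) :
    (x : Matrix ι ι F).charpoly = (y : Matrix ι ι F).charpoly := by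
  obtain ⟨c, hc⟩ := isConj_iff.1 h
  have h1 : (y : Matrix ι ι F) =
      (SpecialLinearGroup.toGL c : Matrix ι ι F) * (x : Matrix ι ι F) *
        (SpecialLinearGroup.toGL c : Matrix ι ι F)⁻¹ := by
    rw [← Matrix.coe_units_inv, ← hc]
    rfl
  rw [h1, Matrix.charpoly_units_conj]

/-- blocks -/
noncomputable def blk {d : ℕ} (k : ℕ) (A : Matrix (Fin d) (Fin d) F) (hA : A.det = 1) :
    _root_.Matrix.SpecialLinearGroup (Fin (d + k)) F :=
  ⟨Matrix.reindex finSumFinEquiv finSumFinEquiv (Matrix.fromBlocks A 0 0 (1 : Matrix (Fin k) (Fin k) F)), by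
    rw [Matrix.det_reindex_self, Matrix.det_fromBlocks_zero₁₂, hA, Matrix.det_one, one_mul]⟩

theorem charpoly_blk {d : ℕ} (k : ℕ) (A : Matrix (Fin d) (Fin d) F) (hA : A.det = 1) :
    (blk k A hA : Matrix (Fin (d + k)) (Fin (d + k)) F).charpoly = A.charpoly * (X - 1) ^ k := by
  show (Matrix.reindex finSumFinEquiv finSumFinEquiv (Matrix.fromBlocks A 0 0 (1 : Matrix (Fin k) (Fin k) F))).charpoly = _
  rw [Matrix.charpoly_reindex, Matrix.charpoly_fromBlocks_zero₁₂, Matrix.charpoly_one, Fintype.card_fin]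

theorem charpoly_of_isConj_blk {d : ℕ} {k : ℕ} {A B : Matrix (Fin d) (Fin d) F} {hA : A.det = 1}
    {hB : B.det = 1} (h : IsConj (blk k A hA) (blk k B hB)) : A.charpoly = B.charpoly := by
  have h1 := charpoly_eq_of_isConj h
  rw [charpoly_blk, charpoly_blk] at h1
  have h2 : ((X : F[X]) - 1) ^ k ≠ 0 := pow_ne_zero _ (X_sub_C_ne_zero (1 : F))
  exact mul_right_cancel₀ h2 h1

/-- companion matrix of `x³ - a x² + b x - 1`. -/
def c3 (p : F × F) : Matrix (Fin 3) (Fin 3) F := !![0,0,1; 1,0,-p.2; 0,1,p.1]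

theorem det_c3 (p : F × F) : (c3 p).det = 1 := by
  rw [c3, Matrix.det_fin_three]
  simp

theorem charpoly_c3 (p : F × F) : (c3 p).charpoly = X ^ 3 - C p.1 * X ^ 2 + C p.2 * X - 1 := by
  rw [c3, Matrix.charpoly, Matrix.charmatrix, Matrix.det_fin_three]
  simp only [Matrix.diagonal, Matrix.of_apply, _root_.Matrix.scalar_apply, _root_.RingHom.mapMatrix_apply, _root_.Fin.isValue, _root_.Matrix.sub_apply, ↓ _root_.reduceIte, _root_.Matrix.map_apply, _root_.Matrix.cons_val', _root_.Matrix.cons_val_zero, _root_.Matrix.cons_val_fin_one, _root_.map_zero, _root_.sub_zero, _root_.Matrix.cons_val_one, _root_.Matrix.cons_val, _root_.Fin.reduceEq, _root_.map_neg, _root_.sub_neg_eq_add, _root_.zero_add, _root_.Polynomial.X_mul_C, _root_.map_one, _root_.zero_sub, _root_.mul_neg, _root_.mul_one, _root_.zero_ne_one, _root_.sub_self, _root_.one_ne_zero, _root_.neg_zero, _root_.MulZeroClass.zero_mul, _root_.MulZeroClass.mul_zero, _root_.add_zero, _root_.neg_neg, _root_.neg_mul, _root_.one_mul]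
  ring

theorem c3_inj {p q : F × F} (h : (c3 p).charpoly = (c3 q).charpoly) : p = q := by
  rw [charpoly_c3, charpoly_c3] at h
  have h1 := congrArg (fun f => f.coeff 1) h
  have h2 := congrArg (fun f => f.coeff 2) h
  simp only [coeff_one, _root_.Polynomial.coeff_sub, _root_.Polynomial.coeff_add, _root_.Polynomial.coeff_X_pow, _root_.OfNat.one_ne_ofNat, ↓ _root_.reduceIte, _root_.Polynomial.coeff_C_mul, _root_.MulZeroClass.mul_zero, _root_.sub_self, _root_.Polynomial.coeff_mul_X, _root_.Polynomial.coeff_C_zero, _root_.zero_add, _root_.one_ne_zero, _root_.sub_zero, _root_.Nat.reduceEqDiff, _root_.mul_one, _root_.zero_sub, _root_.Polynomial.coeff_C_succ, _root_.add_zero, _root_.OfNat.ofNat_ne_zero, _root_.neg_inj] at h1 h2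
  exact Prod.ext h2 h1

/-- companion matrix of `x⁴ - c x³ - b x² - a x + 1`. -/
def c4 (p : F × F × F) : Matrix (Fin 4) (Fin 4) F :=
  !![0,0,0,-1; 1,0,0,p.1; 0,1,0,p.2.1; 0,0,1,p.2.2]

theorem det_c4 (p : F × F × F) : (c4 p).det = 1 := by
  rw [c4]
  simp only [Matrix.det_succ_row_zero, Fin.sum_univ_succ, Fin.succAbove, _root_.Nat.succ_eq_add_one, _root_.Nat.reduceAdd, _root_.Fin.isValue, _root_.Matrix.of_apply, _root_.Matrix.cons_val', _root_.Matrix.cons_val_fin_one, _root_.Matrix.cons_val_zero, _root_.Matrix.submatrix_apply, _root_.Fin.succ_zero_eq_one, _root_.Matrix.cons_val_one, _root_.Matrix.submatrix_submatrix, _root_.Function.comp_apply, _root_.Fin.succ_one_eq_two, _root_.Matrix.cons_val, _root_.Matrix.det_unique, _root_.Fin.default_eq_zero, _root_.Fin.reduceSucc, _root_.Fin.castSucc_zero, _root_.Fin.coe_ofNat_eq_mod, _root_.Nat.zero_mod, _root_.pow_zero, _root_.one_mul, _root_.lt_self_iff_false, ↓ _root_.reduceIte, _root_.Fin.castSucc_one, _root_.Finset.univ_unique, _root_.Fin.val_succ,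 _root_.Fin.val_eq_zero, _root_.zero_add, _root_.pow_one, _root_.Fin.castSucc_succ, _root_.neg_mul, _root_.Fin.succ_pos, _root_.Finset.sum_neg_distrib, _root_.Finset.sum_singleton, _root_.not_lt_zero, _root_.Fin.reduceCastSucc, _root_.even_two, _root_.Even.neg_pow, _root_.one_pow, _root_.Fin.reduceLT, _root_.MulZeroClass.mul_zero, _root_.MulZeroClass.zero_mul, _root_.mul_one, _root_.mul_neg, _root_.neg_zero, _root_.add_zero, _root_.Matrix.cons_val_succ, _root_.Fin.lt_one_iff, _root_.Fin.reduceEq]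
  ring

theorem charpoly_c4 (p : F × F × F) :
    (c4 p).charpoly = X ^ 4 - C p.2.2 * X ^ 3 - C p.2.1 * X ^ 2 - C p.1 * X + 1 := by
  rw [c4, Matrix.charpoly, Matrix.charmatrix]
  simp only [Matrix.det_succ_row_zero, Fin.sum_univ_succ, Fin.succAbove, Matrix.diagonal, Matrix.of_apply, _root_.Matrix.scalar_apply, _root_.RingHom.mapMatrix_apply, _root_.Nat.succ_eq_add_one, _root_.Nat.reduceAdd, _root_.Fin.isValue, _root_.Matrix.sub_apply, _root_.Matrix.map_apply, _root_.Matrix.cons_val', _root_.Matrix.cons_val_fin_one, _root_.Matrix.cons_val_zero, _root_.Matrix.submatrix_apply, _root_.Fin.succ_zero_eq_one, _root_.Matrix.cons_val_one, _root_.Matrix.submatrix_submatrix, _root_.Function.comp_apply, _root_.Fin.succ_one_eq_two, _root_.Matrix.cons_val, _root_.Matrix.det_unique, _root_.Fin.default_eq_zero, _root_.Fin.reduceSucc, _root_.Fin.castSucc_zero, _root_.Fin.coe_ofNat_eq_mod, _root_.Nat.zero_mod, _root_.pow_zero, _root_.one_mul, _root_.lt_self_iff_false, ↓ _root_.reduceIte, _root_.Fin.castSucc_one,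 _root_.Finset.univ_unique, _root_.Fin.val_succ, _root_.Fin.val_eq_zero, _root_.zero_add, _root_.pow_one, _root_.Fin.castSucc_succ, _root_.neg_mul, _root_.neg_sub, _root_.Fin.succ_pos, _root_.Finset.sum_singleton, _root_.right_eq_ite_iff, _root_.one_ne_zero, _root_.imp_false, _root_.not_lt, _root_.nonpos_iff_eq_zero, _root_.Fin.reduceEq, _root_.not_lt_zero, _root_.Fin.reduceCastSucc, _root_.left_eq_ite_iff, _root_.not_le, _root_.even_two, _root_.Even.neg_pow, _root_.one_pow, _root_.Fin.reduceLT, _root_.map_zero, _root_.sub_zero, _root_.zero_le, _root_.map_one, _root_.zero_sub, _root_.mul_neg, _root_.mul_one, _root_.sub_self, _root_.MulZeroClass.mul_zero, _root_.add_zero, _root_.MulZeroClass.zero_mul, _root_.neg_neg, _root_.Matrix.cons_val_succ, _root_.Fin.succ_ne_zero, _root_.neg_add_rev, _root_.zero_ne_one, _root_.Fin.lt_one_iff, _root_.Std.le_refl, _root_.Fin.reduceLE, _root_.neg_zero, _root_.map_neg, _root_.sub_neg_eq_add]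
  ring

theorem c4_inj {p q : F × F × F} (h : (c4 p).charpoly = (c4 q).charpoly) : p = q := by
  rw [charpoly_c4, charpoly_c4] at h
  have h1 := congrArg (fun f => f.coeff 1) h
  have h2 := congrArg (fun f => f.coeff 2) h
  have h3 := congrArg (fun f => f.coeff 3) h
  simp only [coeff_one, _root_.Polynomial.coeff_add, _root_.Polynomial.coeff_sub, _root_.Polynomial.coeff_X_pow, _root_.OfNat.one_ne_ofNat, ↓ _root_.reduceIte, _root_.Polynomial.coeff_C_mul, _root_.MulZeroClass.mul_zero, _root_.sub_self, _root_.Polynomial.coeff_mul_X, _root_.Polynomial.coeff_C_zero, _root_.zero_sub, _root_.one_ne_zero, _root_.add_zero, _root_.neg_inj, _root_.Nat.reduceEqDiff, _root_.mul_one, _root_.Polynomial.coeff_C_succ, _root_.sub_zero, _root_.OfNat.ofNat_ne_zero, _root_.Nat.succ_ne_self] at h1 h2 h3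
  exact Prod.ext h1 (Prod.ext h2 h3)

/-- companion matrix of `x⁵ - d x⁴ - c x³ - b x² - a x - 1`. -/
def c5 (p : F × F × F × F) : Matrix (Fin 5) (Fin 5) F :=
  !![0,0,0,0,1; 1,0,0,0,p.1; 0,1,0,0,p.2.1; 0,0,1,0,p.2.2.1; 0,0,0,1,p.2.2.2]

theorem det_c5 (p : F × F × F × F) : (c5 p).det = 1 := by
  rw [c5]
  simp only [Matrix.det_succ_row_zero, Fin.sum_univ_succ, Fin.succAbove, _root_.Nat.succ_eq_add_one, _root_.Nat.reduceAdd, _root_.Fin.isValue, _root_.Matrix.of_apply, _root_.Matrix.cons_val', _root_.Matrix.cons_val_fin_one, _root_.Matrix.cons_val_zero, _root_.Matrix.submatrix_apply, _root_.Fin.succ_zero_eq_one, _root_.Matrix.cons_val_one, _root_.Matrix.submatrix_submatrix, _root_.Function.comp_apply, _root_.Fin.succ_one_eq_two, _root_.Matrix.cons_val, _root_.Fin.reduceSucc, _root_.Matrix.det_unique, _root_.Fin.default_eq_zero, _root_.Fin.castSucc_zero, _root_.Fin.coe_ofNat_eq_mod, _root_.Nat.zero_mod, _root_.pow_zero, _root_.one_mul, _root_.lt_self_iff_false, ↓ _root_.reduceIte, _root_.Fin.castSucc_one,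 _root_.Finset.univ_unique, _root_.Fin.val_succ, _root_.Fin.val_eq_zero, _root_.zero_add, _root_.pow_one, _root_.Fin.castSucc_succ, _root_.neg_mul, _root_.Fin.succ_pos, _root_.Finset.sum_neg_distrib, _root_.Finset.sum_singleton, _root_.not_lt_zero, _root_.Fin.reduceCastSucc, _root_.even_two, _root_.Even.neg_pow, _root_.one_pow, _root_.Fin.reduceLT, _root_.Fin.lt_one_iff, _root_.Fin.reduceEq, _root_.MulZeroClass.mul_zero, _root_.MulZeroClass.zero_mul, _root_.mul_one, _root_.mul_neg, _root_.neg_zero, _root_.add_zero, _root_.Matrix.cons_val_succ]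
  ring

theorem charpoly_c5 (p : F × F × F × F) :
    (c5 p).charpoly = X ^ 5 - C p.2.2.2 * X ^ 4 - C p.2.2.1 * X ^ 3 - C p.2.1 * X ^ 2 - C p.1 * X - 1 := by
  rw [c5, Matrix.charpoly, Matrix.charmatrix]
  simp only [Matrix.det_succ_row_zero, Fin.sum_univ_succ, Fin.succAbove, Matrix.diagonal, Matrix.of_apply, _root_.Matrix.scalar_apply, _root_.RingHom.mapMatrix_apply, _root_.Nat.succ_eq_add_one, _root_.Nat.reduceAdd, _root_.Fin.isValue, _root_.Matrix.sub_apply, _root_.Matrix.map_apply, _root_.Matrix.cons_val', _root_.Matrix.cons_val_fin_one, _root_.Matrix.cons_val_zero, _root_.Matrix.submatrix_apply, _root_.Fin.succ_zero_eq_one, _root_.Matrix.cons_val_one, _root_.Matrix.submatrix_submatrix, _root_.Function.comp_apply, _root_.Fin.succ_one_eq_two, _root_.Matrix.cons_val, _root_.Fin.reduceSucc, _root_.Matrix.det_unique, _root_.Fin.default_eq_zero, _root_.Fin.castSucc_zero, _root_.Fin.coe_ofNat_eq_mod, _root_.Nat.zero_mod, _root_.pow_zero, _root_.one_mul, _root_.lt_self_iff_false, ↓ _root_.reduceIte,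 _root_.Fin.castSucc_one, _root_.Finset.univ_unique, _root_.Fin.val_succ, _root_.Fin.val_eq_zero, _root_.zero_add, _root_.pow_one, _root_.Fin.castSucc_succ, _root_.neg_mul, _root_.neg_sub, _root_.Fin.succ_pos, _root_.Finset.sum_singleton, _root_.not_lt_zero, _root_.Fin.reduceCastSucc, _root_.even_two, _root_.Even.neg_pow, _root_.one_pow, _root_.Fin.reduceLT, _root_.right_eq_ite_iff, _root_.one_ne_zero, _root_.imp_false, _root_.not_lt, _root_.nonpos_iff_eq_zero, _root_.Fin.reduceEq, _root_.left_eq_ite_iff, _root_.not_le, _root_.Fin.lt_one_iff, _root_.map_zero, _root_.sub_zero, _root_.zero_le, _root_.map_one, _root_.zero_sub, _root_.mul_neg, _root_.mul_one, _root_.sub_self, _root_.MulZeroClass.mul_zero, _root_.add_zero, _root_.MulZeroClass.zero_mul, _root_.neg_neg, _root_.neg_add_rev, _root_.neg_zero, _root_.Matrix.cons_val_succ, _root_.Fin.succ_ne_zero, _root_.zero_ne_one, _root_.Fin.reduceLE, _root_.Std.le_refl]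
  ring

theorem c5_inj {p q : F × F × F × F} (h : (c5 p).charpoly = (c5 q).charpoly) : p = q := by
  rw [charpoly_c5, charpoly_c5] at h
  have h1 := congrArg (fun f => f.coeff 1) h
  have h2 := congrArg (fun f => f.coeff 2) h
  have h3 := congrArg (fun f => f.coeff 3) h
  have h4 := congrArg (fun f => f.coeff 4) h
  simp only [coeff_one, _root_.Polynomial.coeff_sub, _root_.Polynomial.coeff_X_pow, _root_.OfNat.one_ne_ofNat, ↓ _root_.reduceIte, _root_.Polynomial.coeff_C_mul, _root_.MulZeroClass.mul_zero, _root_.sub_self, _root_.Polynomial.coeff_mul_X, _root_.Polynomial.coeff_C_zero, _root_.zero_sub, _root_.one_ne_zero, _root_.sub_zero, _root_.neg_inj, _root_.Nat.reduceEqDiff, _root_.mul_one, _root_.Polynomial.coeff_C_succ, _root_.OfNat.ofNat_ne_zero, _root_.Nat.succ_ne_self] at h1 h2 h3 h4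
  exact Prod.ext h1 (Prod.ext h2 (Prod.ext h3 h4))

variable [Fintype F]

theorem finite_SL (ι : Type*) [Fintype ι] [DecidableEq ι] : Finite (_root_.Matrix.SpecialLinearGroup ι F) :=
  inferInstance

theorem sl_three (k : ℕ) : Fintype.card F ^ 2 ≤ Nat.card (ConjClasses (_root_.Matrix.SpecialLinearGroup (Fin (3 + k)) F)) := by
  have h := H92.KTools.card_le_of_inj (G := _root_.Matrix.SpecialLinearGroup (Fin (3 + k)) F)
    (fun p : F × F => blk k (c3 p) (det_c3 p))
    (fun i j hij => c3_inj (charpoly_of_isConj_blk hij))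
  rw [Nat.card_prod, Nat.card_eq_fintype_card] at h
  rwa [pow_two]

theorem sl_four (k : ℕ) : Fintype.card F ^ 3 ≤ Nat.card (ConjClasses (_root_.Matrix.SpecialLinearGroup (Fin (4 + k)) F)) := by
  have h := H92.KTools.card_le_of_inj (G := _root_.Matrix.SpecialLinearGroup (Fin (4 + k)) F)
    (fun p : F × F × F => blk k (c4 p) (det_c4 p))
    (fun i j hij => c4_inj (charpoly_of_isConj_blk hij))
  rw [Nat.card_prod, Nat.card_prod, Nat.card_eq_fintype_card] at h
  calc Fintype.card F ^ 3 = Fintype.card F * (Fintype.card F * Fintype.card F) := by ring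
    _ ≤ _ := h

theorem sl_five (k : ℕ) : Fintype.card F ^ 4 ≤ Nat.card (ConjClasses (_root_.Matrix.SpecialLinearGroup (Fin (5 + k)) F)) := by
  have h := H92.KTools.card_le_of_inj (G := _root_.Matrix.SpecialLinearGroup (Fin (5 + k)) F)
    (fun p : F × F × F × F => blk k (c5 p) (det_c5 p))
    (fun i j hij => c5_inj (charpoly_of_isConj_blk hij))
  rw [Nat.card_prod, Nat.card_prod, Nat.card_prod, Nat.card_eq_fintype_card] at h
  calc Fintype.card F ^ 4 = Fintype.card F * (Fintype.card F * (Fintype.card F * Fintype.card F)) := by ring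
    _ ≤ _ := h

omit [Fintype F] in
/-- the centre of `SL_n(F)`. -/
theorem card_center [Finite F] (n : ℕ) (hn : 1 ≤ n) :
    Nat.card (Subgroup.center (_root_.Matrix.SpecialLinearGroup (Fin n) F)) = Nat.gcd n (Nat.card F - 1) := by
  rw [Nat.card_congr (SpecialLinearGroup.center_equiv_rootsOfUnity'
    (n := Fin n) (R := F) ⟨0, by omega⟩).toEquiv, rootsOfUnity_eq_ker,
    IsCyclic.card_powMonoidHom_ker, Nat.card_units, Fintype.card_fin, Nat.gcd_comm]

theorem psl_le (n : ℕ) (hn : 1 ≤ n) : Nat.card (ConjClasses (_root_.Matrix.SpecialLinearGroup (Fin n) F)) ≤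
    Nat.gcd n (Fintype.card F - 1) * Nat.card (ConjClasses (ProjectiveSpecialLinearGroup (Fin n) F)) := by
  have h := H92.KTools.card_le_mul_quotient (G := _root_.Matrix.SpecialLinearGroup (Fin n) F)
    (Subgroup.center (_root_.Matrix.SpecialLinearGroup (Fin n) F)) le_rfl
  rw [card_center n hn, Nat.card_eq_fintype_card (α := F)] at h
  exact h

/-- **`k(PSL_n(q)) ≥ 12`** for `n ≥ 3`, except for `L₃(2)`, `L₃(3)`, `L₃(4)`, `L₄(2)`. -/
theorem twelve_le_psl_gen (n : ℕ) (hn : 3 ≤ n) (h3 : n = 3 → 5 ≤ Fintype.card F)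
    (h4 : n = 4 → 3 ≤ Fintype.card F) :
    12 ≤ Nat.card (ConjClasses (ProjectiveSpecialLinearGroup (Fin n) F)) := by
  have hq : 2 ≤ Fintype.card F := Fintype.one_lt_card
  have hle := psl_le (F := F) n (by omega)
  set q := Fintype.card F with hqd
  set K := Nat.card (ConjClasses (ProjectiveSpecialLinearGroup (Fin n) F))
  rcases Nat.eq_or_lt_of_le hn with h | h
  · -- `n = 3`
    subst h
    have h5 := h3 rfl
    have h1 : q ^ 2 ≤ Nat.card (ConjClasses (_root_.Matrix.SpecialLinearGroup (Fin 3) F)) := sl_three 0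
    have h2 : Nat.gcd 3 (q - 1) ≤ 3 := Nat.gcd_le_left _ (by norm_num)
    rcases Nat.lt_or_ge q 7 with h7 | h7
    · -- `q = 5` (`q = 6` does not matter)
      have h6 : q = 5 ∨ q = 6 := by omega
      rcases h6 with h6 | h6
      · rw [h6] at hle h1
        norm_num only [_root_.one_mul] at hle h1
        omega
      · rw [h6] at hle h1
        norm_num only [_root_.one_mul] at hle h1
        omega
    · have h8 : 49 ≤ q ^ 2 := by nlinarith only [h7]
      have h9 : Nat.gcd 3 (q - 1) * K ≤ 3 * K := Nat.mul_le_mul_right _ h2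
      omega
  · rcases Nat.lt_or_ge q 3 with h5 | h5
    · have h2 : q = 2 := by omega
      have hn5 : 5 ≤ n := by
        by_contra hc
        have : n = 4 := by omega
        have := h4 this
        omega
      obtain ⟨k, rfl⟩ := Nat.exists_eq_add_of_le hn5
      have h6 : q ^ 4 ≤ _ := sl_five (F := F) k
      rw [h2] at hle h6
      norm_num only [_root_.Nat.gcd_one_right, _root_.one_mul] at hle h6
      omega
    · obtain ⟨k, rfl⟩ := Nat.exists_eq_add_of_le (show 4 ≤ n by omega)
      have h6 : q ^ 3 ≤ _ := sl_four (F := F) k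
      have h7 : Nat.gcd (4 + k) (q - 1) ≤ q - 1 := Nat.gcd_le_right _ (by omega)
      have h8 : Nat.gcd (4 + k) (q - 1) * K ≤ (q - 1) * K := Nat.mul_le_mul_right _ h7
      have h9 : q ^ 3 ≤ (q - 1) * K := h6.trans (hle.trans h8)
      by_contra hc
      have h10 : K ≤ 11 := by omega
      obtain ⟨r, hr⟩ : ∃ r, q = r + 1 := ⟨q - 1, by omega⟩
      rw [hr] at h9
      have h11 : (r + 1 - 1) * K ≤ r * 11 := by
        rw [Nat.add_sub_cancel]
        exact Nat.mul_le_mul_left _ h10
      have h12 : (r + 1) ^ 3 ≤ r * 11 := h9.trans h11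
      have h13 : 2 ≤ r := by omega
      have h14 : 2 * r ≤ r * r := Nat.mul_le_mul_right _ h13
      have h15 : 2 * (r * r) ≤ r * (r * r) := Nat.mul_le_mul_right _ h13
      linarith only [h9, h11, h14, h15]

end Cfsg.Agent.H93.PslCharpoly

private theorem dce_6ea677cc79fd : _root_.True := by
  try have : _root_.True := by simp only [_root_.Cfsg.Agent.H93.PslCharpoly.c3.eq_1]
  try have : _root_.True := by simp only [_root_.Cfsg.Agent.H93.PslCharpoly.c5.eq_1]
  try have : _root_.True := by simp only [_root_.Cfsg.Agent.H93.PslCharpoly.c4.eq_1]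
  exact _root_.True.intro
end

-- part: H93/PReg/Base
section
set_option linter.all false
open scoped Cfsg.Agent.FastGrp

/-!
# Counting orbits of `Aut S` on the elements of `S` with orders in a set (for S4883)

* `MO A n S` : `S` has `n` pairwise non `Aut S`-conjugate elements whose orders lie in `A`;
* `MO.mono`, `MO.congr`, `MO.add` (disjoint sets of orders), `MO.single`, `MO.of_finset` (element orders);
* `MO.of_count` : a set `X` of elements with orders in `A`; every `Aut S`-orbit meets `X` in at most `c` elements;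
* `Row S` : for all primes `p ≥ 5` with `p² ∣ |S|` there are `p` orbits of `Aut S` on the `p`-regular elements.
-/

set_option autoImplicit false

namespace Cfsg.Agent.H93.PReg

open Cfsg.Agent.H92.KTools

universe u v

/-- `n` pairwise non `Aut S`-conjugate elements with orders in `A`. -/
def MO (A : Set ℕ) (n : ℕ) (S : Type u) [Group S] : Prop :=
  ∃ f : Fin n → S, (∀ i, orderOf (f i) ∈ A) ∧ ∀ i j, (∃ a : MulAut S, a (f i) = f j) → i = j

/-- `p`-regular orders -/
def Reg (p : ℕ) : Set ℕ := {k | ¬ p ∣ k}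

/-- **the row of `S`** -/
def Row (S : Type u) [Group S] : Prop :=
  ∀ p : ℕ, p.Prime → 5 ≤ p → p ^ 2 ∣ Nat.card S → MO (Reg p) p S

variable {S : Type u} [Group S] {A B : Set ℕ} {m n : ℕ}

theorem MO.mono (h : MO A n S) (hAB : A ⊆ B) (hmn : m ≤ n) : MO B m S := by
  obtain ⟨f, h1, h2⟩ := h
  refine ⟨fun i => f (Fin.castLE hmn i), fun i => hAB (h1 _), fun i j hij => ?_⟩
  exact Fin.castLE_injective hmn (h2 _ _ hij)

theorem MO.zero : MO A 0 S := ⟨fun i => i.elim0, fun i => i.elim0, fun i => i.elim0⟩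

theorem orderOf_aut (a : MulAut S) (x : S) : orderOf (a x) = orderOf x :=
  orderOf_injective a.toMonoidHom a.injective x

theorem MO.congr {T : Type v} [Group T] (e : S ≃* T) (h : MO A n S) : MO A n T := by
  obtain ⟨f, h1, h2⟩ := h
  refine ⟨fun i => e (f i), fun i => ?_, fun i j hij => ?_⟩
  · have : orderOf (e (f i)) = orderOf (f i) := orderOf_injective e.toMonoidHom e.injective _
    rw [this]; exact h1 i
  · obtain ⟨a, ha⟩ := hij
    refine h2 i j ⟨(e.trans a).trans e.symm, ?_⟩
    apply e.injective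
    simpa using ha

theorem Row.congr {T : Type v} [Group T] (e : S ≃* T) (h : Row S) : Row T := fun p hp h5 hd =>
  (h p hp h5 (by rwa [Nat.card_congr e.toEquiv])).congr e

theorem MO.add (hAB : Disjoint A B) (hA : MO A m S) (hB : MO B n S) : MO (A ∪ B) (m + n) S := by
  obtain ⟨f, f1, f2⟩ := hA
  obtain ⟨g, g1, g2⟩ := hB
  have hdis : ∀ (i : Fin m) (j : Fin n) (a : MulAut S), a (f i) ≠ g j := by
    intro i j a h
    have h3 := orderOf_aut a (f i)
    rw [h] at h3
    exact Set.disjoint_left.1 hAB (f1 i) (h3 ▸ g1 j)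
  refine ⟨fun i => Sum.elim f g (finSumFinEquiv.symm i), fun i => ?_, fun i j hij => ?_⟩
  · rcases h : finSumFinEquiv.symm i with k | k
    · exact Or.inl (by simp only [h, Sum.elim_inl]; exact f1 k)
    · exact Or.inr (by simp only [h, Sum.elim_inr]; exact g1 k)
  · apply finSumFinEquiv.symm.injective
    obtain ⟨a, ha⟩ := hij
    rcases hi : finSumFinEquiv.symm i with k | k <;> rcases hj : finSumFinEquiv.symm j with l | l <;>
      simp only [hi, hj, Sum.elim_inl, Sum.elim_inr] at ha
    · rw [f2 k l ⟨a, ha⟩]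
    · exact absurd ha (hdis k l a)
    · exact absurd (show a⁻¹ (f l) = g k by rw [← ha]; exact MulAut.inv_apply_self S a (g k)) (hdis l k a⁻¹)
    · rw [g2 k l ⟨a, ha⟩]

theorem MO.single {k : ℕ} (h : HasOrd S k) (hk : k ∈ A) : MO A 1 S := by
  obtain ⟨x, hx⟩ := h
  exact ⟨fun _ => x, fun _ => by rw [hx]; exact hk, fun i j _ => Subsingleton.elim i j⟩

/-- pairwise different element orders -/
theorem MO.of_finset (L : Finset ℕ) (h : ∀ k ∈ L, HasOrd S k) (hA : ∀ k ∈ L, k ∈ A) : MO A L.card S := by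
  classical
  choose! x hx using h
  let e := L.equivFin
  refine ⟨fun i => x (e.symm i).1, fun i => ?_, fun i j hij => ?_⟩
  · rw [hx _ (e.symm i).2]; exact hA _ (e.symm i).2
  · obtain ⟨a, ha⟩ := hij
    apply e.symm.injective
    apply Subtype.ext
    have ha' : a (x (e.symm i).1) = x (e.symm j).1 := ha
    rw [← hx _ (e.symm i).2, ← hx _ (e.symm j).2, ← ha', orderOf_aut]

/-- the orbit relation of `Aut S` -/
def autSetoid (S : Type u) [Group S] : Setoid S where
  r x y := ∃ a : MulAut S, a x = y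
  iseqv := ⟨fun _ => ⟨1, rfl⟩, fun {_ _} ⟨a, ha⟩ => ⟨a⁻¹, by rw [← ha]; exact MulAut.inv_apply_self S a _⟩,
    fun {_ _ _} ⟨a, ha⟩ ⟨b, hb⟩ => ⟨b * a, by rw [MulAut.mul_apply, ha, hb]⟩⟩

/-- from a set meeting many orbits -/
theorem MO.of_image (X : Finset S) (hX : ∀ x ∈ X, orderOf x ∈ A)
    [DecidableEq (Quotient (autSetoid S))]
    (h : n ≤ (X.image (Quotient.mk (autSetoid S))).card) : MO A n S := by
  classical
  obtain ⟨Y, hYX, hY⟩ := Finset.exists_subset_card_eq h
  have h1 : ∀ y ∈ Y, ∃ x ∈ X, Quotient.mk (autSetoid S) x = y := by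
    intro y hy
    simpa using Finset.mem_image.1 (hYX hy)
  choose! x hx1 hx2 using h1
  let e := Y.equivFinOfCardEq hY
  refine ⟨fun i => x (e.symm i).1, fun i => hX _ (hx1 _ (e.symm i).2), fun i j hij => ?_⟩
  apply e.symm.injective
  apply Subtype.ext
  rw [← hx2 _ (e.symm i).2, ← hx2 _ (e.symm j).2]
  exact Quotient.sound hij

/-- **counting**: every orbit of `Aut S` meets `X` in at most `c` elements -/
theorem MO.of_count (X : Finset S) (hX : ∀ x ∈ X, orderOf x ∈ A) (c : ℕ)
    (hc : ∀ x ∈ X, ∀ Y ⊆ X, (∀ y ∈ Y, ∃ a : MulAut S, a x = y) → Y.card ≤ c)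
    (h : (n - 1) * c < X.card) : MO A n S := by
  classical
  refine MO.of_image X hX ?_
  by_contra hlt
  push Not at hlt
  have h1 : X.card ≤ c * (X.image (Quotient.mk (autSetoid S))).card := by
    apply Finset.card_le_mul_card_image
    intro b hb
    obtain ⟨x, hx, rfl⟩ := Finset.mem_image.1 hb
    refine hc x hx _ (Finset.filter_subset _ _) fun y hy => ?_
    obtain ⟨-, hy2⟩ := Finset.mem_filter.1 hy
    exact Quotient.exact hy2.symm
  have h2 : c * (X.image (Quotient.mk (autSetoid S))).card ≤ c * (n - 1) := Nat.mul_le_mul le_rfl (by omega)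
  rw [mul_comm (n - 1)] at h
  omega

/-- values of a function constant on the orbits -/
theorem MO.of_values {ι : Type*} (inv : S → ι) (hinv : ∀ (a : MulAut S) x, inv (a x) = inv x) (f : Fin n → S)
    (hf : ∀ i, orderOf (f i) ∈ A) (h : Function.Injective fun i => inv (f i)) : MO A n S :=
  ⟨f, hf, fun i j ⟨a, ha⟩ => h (by simp only [← ha, hinv])⟩

end Cfsg.Agent.H93.PReg
end

-- part: H93/PReg/Torus
section
set_option linter.all false
open scoped Cfsg.Agent.FastGrp

/-!
# Orbits of `Aut S` on the powers of an element with an eigenvalue of large order (for S4883)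

* `root_pow` : powers of eigenvalues;
* `MO.of_index` : counting with an index set;
* `MO.of_root` : `π : H → S`, `ρ : H → Mat_ι(F)`, `t : H` with an eigenvalue of order `N` prime to `p`; if
  `a (π (t ^ k)) = π (t ^ l)` implies that the characteristic polynomial of `ρ (t ^ l)` is one of `c` polynomials
  depending only on `k`, there are at least `N / (c |ι|)` orbits.
-/

set_option autoImplicit false

namespace Cfsg.Agent.H93.PReg

open Cfsg.Agent.H92.KTools Polynomial Matrix

universe u

section root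

variable {F K : Type*} [Field F] [Field K] [Algebra F K] {ι : Type*} [Fintype ι] [DecidableEq ι]

theorem mem_spectrum_iff (A : Matrix ι ι F) (x : K) :
    aeval x A.charpoly = 0 ↔ x ∈ spectrum K (A.map (algebraMap F K)) := by
  rw [Matrix.mem_spectrum_iff_isRoot_charpoly, IsRoot.def, Matrix.charpoly_map, eval_map_algebraMap]

/-- powers of an eigenvalue -/
theorem root_pow {A : Matrix ι ι F} {x : K} (hx : aeval x A.charpoly = 0) (l : ℕ) :
    aeval (x ^ l) (A ^ l).charpoly = 0 := by
  rw [mem_spectrum_iff] at hx ⊢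
  have h1 : (A ^ l).map (algebraMap F K) = (A.map (algebraMap F K)) ^ l := by
    rw [← RingHom.mapMatrix_apply, map_pow, RingHom.mapMatrix_apply]
  rw [h1]
  exact spectrum.pow_mem_pow _ l hx

end root

variable {S : Type u} [Group S] {A : Set ℕ} {n : ℕ}

/-- **counting with an index set** -/
theorem MO.of_index {κ : Type*} (X : Finset κ) (φ : κ → S) (hX : ∀ i ∈ X, orderOf (φ i) ∈ A) (c : ℕ)
    (hc : ∀ i ∈ X, ∀ Y ⊆ X, (∀ j ∈ Y, ∃ a : MulAut S, a (φ i) = φ j) → Y.card ≤ c)
    (h : (n - 1) * c < X.card) : MO A n S := by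
  classical
  refine MO.of_image (X.image φ) (fun x hx => ?_) ?_
  · obtain ⟨i, hi, rfl⟩ := Finset.mem_image.1 hx
    exact hX i hi
  rw [Finset.image_image]
  by_contra hlt
  push Not at hlt
  have h1 : X.card ≤ c * (X.image (Quotient.mk (autSetoid S) ∘ φ)).card := by
    apply Finset.card_le_mul_card_image
    intro b hb
    obtain ⟨i, hi, rfl⟩ := Finset.mem_image.1 hb
    refine hc i hi _ (Finset.filter_subset _ _) fun j hj => ?_
    obtain ⟨-, hj2⟩ := Finset.mem_filter.1 hj
    exact Quotient.exact hj2.symm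
  have h2 : c * (X.image (Quotient.mk (autSetoid S) ∘ φ)).card ≤ c * (n - 1) := Nat.mul_le_mul le_rfl (by omega)
  rw [mul_comm (n - 1)] at h
  omega

/-- the exponents of an element `x` of order `N` for which `x ^ l` is a root of one of `c` polynomials of degree
at most `D` -/
theorem card_exponents_le {K : Type*} [Field K] {F : Type*} [Field F] [Algebra F K] {x : K} {W : Type*} [Finite W]
    (P : W → F[X]) (hP0 : ∀ w, P w ≠ 0) (D : ℕ) (hD : ∀ w, (P w).natDegree ≤ D) (Y : Finset ℕ)
    (hY : ∀ l ∈ Y, l < orderOf x) (hr : ∀ l ∈ Y, ∃ w, aeval (x ^ l) (P w) = 0) : Y.card ≤ D * Nat.card W := by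
  classical
  have := Fintype.ofFinite W
  let R : Finset K := Finset.univ.biUnion fun w => ((P w).map (algebraMap F K)).roots.toFinset
  have h1 : Y.card ≤ R.card := by
    refine Finset.card_le_card_of_injOn (fun l => x ^ l) ?_ ?_
    · intro l hl
      obtain ⟨w, hw⟩ := hr l hl
      rw [Finset.mem_coe, Finset.mem_biUnion]
      refine ⟨w, Finset.mem_univ _, ?_⟩
      rw [Multiset.mem_toFinset, mem_roots ((Polynomial.map_ne_zero_iff (algebraMap F K).injective).2 (hP0 w)),
        IsRoot.def, eval_map_algebraMap]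
      exact hw
    · intro a ha b hb hab
      exact pow_injOn_Iio_orderOf (hY a ha) (hY b hb) hab
  refine h1.trans ((Finset.card_biUnion_le_card_mul _ _ D fun w _ => ?_).trans (by
    rw [Finset.card_univ, mul_comm, Nat.card_eq_fintype_card]))
  refine (Multiset.toFinset_card_le _).trans ((card_roots' _).trans ?_)
  rw [natDegree_map]
  exact hD w

section main

variable {F K : Type*} [Field F] [Field K] [Algebra F K] {ι : Type*} [Fintype ι] [DecidableEq ι]
  {H : Type*} [Group H] (ρ : H →* Matrix ι ι F) (π : H →* S) {W : Type*} [Finite W]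

/-- the form of the relation between `t ^ k` and `t ^ l` if they are conjugate under `Aut S` -/
def Ctl (ρ : H →* Matrix ι ι F) (π : H →* S) (W : Type*) : Prop :=
  ∃ P : W → H → F[X], (∀ w g, (P w g) ≠ 0 ∧ (P w g).natDegree ≤ Fintype.card ι) ∧
    ∀ (a : MulAut S) (g g' : H), a (π g) = π g' → ∃ w, (ρ g').charpoly = P w g

variable {ρ π}

/-- **the torus lemma** for the exponents in a set `X` -/
theorem MO.of_exps (hC : Ctl ρ π W) (t : H) (x : K) (hx : aeval x (ρ t).charpoly = 0) (X : Finset ℕ)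
    (hX : ∀ k ∈ X, k < orderOf x ∧ orderOf (π (t ^ k)) ∈ A)
    (h : (n - 1) * (Fintype.card ι * Nat.card W) < X.card) : MO A n S := by
  obtain ⟨P, hP1, hP2⟩ := hC
  refine MO.of_index X (fun k => π (t ^ k)) (fun k hk => (hX k hk).2) (Fintype.card ι * Nat.card W) ?_ h
  intro k hk Y hYX hY
  refine card_exponents_le (x := x) (fun w => P w (t ^ k)) (fun w => (hP1 _ _).1) _ (fun w => (hP1 _ _).2) Y
    (fun l hl => (hX l (hYX hl)).1) fun l hl => ?_
  obtain ⟨a, ha⟩ := hY l hl
  obtain ⟨w, hw⟩ := hP2 a _ _ ha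
  refine ⟨w, ?_⟩
  rw [← hw, map_pow]
  exact root_pow hx l

/-- **all powers** of an element of order prime to `p` -/
theorem MO.of_root {p : ℕ} (hC : Ctl ρ π W) (t : H) (ht : ¬ p ∣ orderOf t) (x : K)
    (hx : aeval x (ρ t).charpoly = 0) (h : (n - 1) * (Fintype.card ι * Nat.card W) < orderOf x) :
    MO (Reg p) n S := by
  refine MO.of_exps hC t x hx (Finset.range (orderOf x)) (fun k hk => ⟨Finset.mem_range.1 hk, ?_⟩)
    (by rwa [Finset.card_range])
  show ¬ p ∣ orderOf (π (t ^ k))
  exact fun hd => ht (hd.trans ((orderOf_map_dvd π _).trans (orderOf_pow_dvd k)))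

/-- removing the `p`-part -/
theorem MO.of_root' [Finite H] {p : ℕ} (hp : p.Prime) (hC : Ctl ρ π W) (t : H) (x : K)
    (hx : aeval x (ρ t).charpoly = 0)
    (h : (n - 1) * (Fintype.card ι * Nat.card W) * p ^ (orderOf x).factorization p < orderOf x) :
    MO (Reg p) n S := by
  have h0 : orderOf x ≠ 0 := by omega
  have ht0 : orderOf t ≠ 0 := (orderOf_pos t).ne'
  have hdvd : orderOf x ∣ orderOf t := by
    apply orderOf_dvd_of_pow_eq_one
    have h1 := root_pow hx (orderOf t)
    rw [← map_pow, pow_orderOf_eq_one, map_one, Matrix.charpoly_one, map_pow, map_sub, aeval_X, map_one] at h1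
    by_cases hι : Fintype.card ι = 0
    · rw [hι, pow_zero] at h1
      exact absurd h1 one_ne_zero
    · exact sub_eq_zero.1 ((pow_eq_zero_iff hι).1 h1)
  have hpt : ¬ p ∣ orderOf (t ^ p ^ (orderOf t).factorization p) := by
    rw [orderOf_pow_of_dvd (pow_ne_zero _ hp.ne_zero) (Nat.ordProj_dvd _ _)]
    exact Nat.not_dvd_ordCompl hp ht0
  have hox : orderOf (x ^ p ^ (orderOf t).factorization p) = orderOf x / p ^ (orderOf x).factorization p := by
    have hle : (orderOf x).factorization p ≤ (orderOf t).factorization p :=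
      (Nat.factorization_le_iff_dvd h0 ht0).2 hdvd p
    obtain ⟨c, hc⟩ := Nat.exists_eq_add_of_le hle
    rw [hc, pow_add, pow_mul, orderOf_pow', orderOf_pow_of_dvd (pow_ne_zero _ hp.ne_zero) (Nat.ordProj_dvd _ _)]
    · have : Nat.gcd (orderOf x / p ^ (orderOf x).factorization p) (p ^ c) = 1 :=
        Nat.Coprime.pow_right _ (((Nat.Prime.coprime_iff_not_dvd hp).2 (Nat.not_dvd_ordCompl hp h0)).symm)
      rw [this, Nat.div_one]
    · exact pow_ne_zero _ hp.ne_zero
  refine MO.of_root hC (t ^ p ^ (orderOf t).factorization p) hpt (x ^ p ^ (orderOf t).factorization p) ?_ ?_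
  · rw [map_pow]
    exact root_pow hx _
  · rw [hox, Nat.lt_div_iff_mul_lt' (Nat.ordProj_dvd _ _), mul_comm]
    exact h

end main

end Cfsg.Agent.H93.PReg
end

-- part: H93/PReg/Singer
section
set_option linter.all false
open scoped Cfsg.Agent.FastGrp

/-!
# Singer cycles (for S4883)

* `root_leftMul` : `y ∈ K` is a root of the characteristic polynomial of the multiplication by `y`;
* `exists_ext` : an extension of degree `n` with a generator of the multiplicative group;
* `sl_one`, `sl_two` : elements of `SL_n(F)` with an eigenvalue of order `(q^n - 1)/(q - 1)`, `q^(n-1) - 1`.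
-/

set_option autoImplicit false

namespace Cfsg.Agent.H93.PReg.Singer

open Polynomial Matrix Cfsg.Agent.H93.PReg

section root

variable {F K : Type*} [Field F] [Field K] [Algebra F K] {ι : Type*} [Fintype ι] [DecidableEq ι]

/-- an algebra homomorphism from a field to matrices -/
theorem root_algHom [Nonempty ι] (φ : K →ₐ[F] Matrix ι ι F) (y : K) : aeval y (φ y).charpoly = 0 := by
  have h1 : φ (aeval y (φ y).charpoly) = 0 := by
    rw [← aeval_algHom_apply]
    exact Matrix.aeval_self_charpoly _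
  exact (map_eq_zero_iff φ φ.toRingHom.injective).1 h1

theorem root_leftMul [Nonempty ι] (b : Module.Basis ι F K) (y : K) :
    aeval y (Algebra.leftMulMatrix b y).charpoly = 0 := root_algHom (Algebra.leftMulMatrix b) y

end root

theorem exists_ext (F : Type) [Field F] [Fintype F] (n : ℕ) (hn : n ≠ 0) :
    ∃ (K : Type) (_ : Field K) (_ : Algebra F K) (_ : Module.Basis (Fin n) F K) (_ : Finite K) (g : Kˣ),
      Nat.card K = Fintype.card F ^ n ∧ orderOf g = Fintype.card F ^ n - 1 := by
  have : NeZero n := ⟨hn⟩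
  obtain ⟨p, hp⟩ := CharP.exists F
  have : Fact p.Prime := ⟨CharP.char_is_prime F p⟩
  have hfin : Finite (FiniteField.Extension F p n) := inferInstance
  obtain ⟨g, hg⟩ := IsCyclic.exists_ofOrder_eq_natCard (α := (FiniteField.Extension F p n)ˣ)
  refine ⟨FiniteField.Extension F p n, inferInstance, inferInstance,
    Module.finBasisOfFinrankEq F (FiniteField.Extension F p n) (FiniteField.finrank_extension F p n), hfin, g, ?_, ?_⟩
  · rw [FiniteField.natCard_extension F p n, Nat.card_eq_fintype_card]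
  · rw [hg, Nat.card_units, FiniteField.natCard_extension F p n, Nat.card_eq_fintype_card]

variable {F : Type} [Field F] [Fintype F]

/-- the element of order `(q^n - 1)/(q - 1)` -/
theorem sl_one (n : ℕ) (hn : n ≠ 0) : ∃ (K : Type) (_ : Field K) (_ : Algebra F K)
    (t : SpecialLinearGroup (Fin n) F) (x : K), aeval x t.1.charpoly = 0 ∧
      orderOf x = (Fintype.card F ^ n - 1) / (Fintype.card F - 1) := by
  have : NeZero n := ⟨hn⟩
  have : Nonempty (Fin n) := ⟨⟨0, by omega⟩⟩
  obtain ⟨K, _, _, b, _, g, hK, hg⟩ := exists_ext F n hn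
  have hq : 2 ≤ Fintype.card F := Fintype.one_lt_card
  have hdet : (Algebra.leftMulMatrix b ((g : K) ^ (Fintype.card F - 1))).det = 1 := by
    rw [← Algebra.norm_eq_matrix_det, map_pow]
    apply FiniteField.pow_card_sub_one_eq_one
    rw [Ne, Algebra.norm_eq_zero_iff]
    exact g.ne_zero
  refine ⟨K, inferInstance, inferInstance, ⟨_, hdet⟩, (g : K) ^ (Fintype.card F - 1), root_leftMul b _, ?_⟩
  rw [← Units.val_pow_eq_pow_val, orderOf_units, orderOf_pow_of_dvd (by omega) ?_, hg]
  rw [hg]
  simpa using Nat.sub_dvd_pow_sub_pow (Fintype.card F) 1 n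

/-- the element of order `q^n - 1` in `SL_(n+1)` -/
theorem sl_two (n : ℕ) (hn : n ≠ 0) : ∃ (K : Type) (_ : Field K) (_ : Algebra F K)
    (t : SpecialLinearGroup (Fin (n + 1)) F) (x : K), aeval x t.1.charpoly = 0 ∧
      orderOf x = Fintype.card F ^ n - 1 := by
  have : Nonempty (Fin n) := ⟨⟨0, by omega⟩⟩
  obtain ⟨K, _, _, b, _, g, hK, hg⟩ := exists_ext F n hn
  have hnorm : Algebra.norm F (g : K) ≠ 0 := by
    rw [Ne, Algebra.norm_eq_zero_iff_of_basis b]
    exact g.ne_zero
  let B : Matrix (Fin n ⊕ Fin 1) (Fin n ⊕ Fin 1) F :=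
    fromBlocks (Algebra.leftMulMatrix b (g : K)) 0 0 (diagonal fun _ => (Algebra.norm F (g : K))⁻¹)
  have hdet : (reindex finSumFinEquiv finSumFinEquiv B).det = 1 := by
    rw [det_reindex_self, det_fromBlocks_zero₂₁, ← Algebra.norm_eq_matrix_det, det_diagonal]
    simp [hnorm]
  refine ⟨K, inferInstance, inferInstance, ⟨_, hdet⟩, (g : K), ?_, by rw [orderOf_units, hg]⟩
  show aeval (g : K) (reindex finSumFinEquiv finSumFinEquiv B).charpoly = 0
  rw [charpoly_reindex, charpoly_fromBlocks_zero₂₁, map_mul, root_leftMul b, zero_mul]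

end Cfsg.Agent.H93.PReg.Singer
end

-- part: H153/ZerosTool
section
set_option linter.all false
open scoped Cfsg.Agent.FastGrp

/-!
# Orders of words in permutation tables (S4895, helper153)
-/

set_option autoImplicit false

namespace Cfsg.Agent.H153.Zeros

open Cfsg.Agent.H92.KTools Cfsg.Agent.SporadicA.PermTab Equiv

/-- `k`-fold iteration -/
def itr (f : ℕ → ℕ) (k : ℕ) : ℕ → ℕ := Nat.rec (fun j => j) (fun _ ih j => ih (f j)) k

theorem itr_succ (f : ℕ → ℕ) (k j : ℕ) : itr f (k + 1) j = itr f k (f j) := rfl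

/-- the word `L` has order `m`, `ps` = a list containing the prime divisors of `m` -/
noncomputable def ordChk (n : ℕ) (L : List ℕ) (m : ℕ) (ps : List ℕ) : Bool :=
  band (allB (fun i => Nat.beq (itr (ev L) m i) i) n)
    (ps.all fun p => !(allB (fun i => Nat.beq (itr (ev L) (m / p) i) i) n))

theorem pow_eq {n : ℕ} {g : Perm (Fin n)} {L : List ℕ} (hg : ∀ i : Fin n, (g i : ℕ) = ev L i) (k : ℕ) (i : Fin n) :
    ((g ^ k) i : ℕ) = itr (ev L) k i := by
  induction k generalizing i with
  | zero => rfl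
  | succ k ih =>
    rw [pow_succ, Perm.mul_apply, ih, itr_succ, hg]

theorem pow_eq_one_iff {n : ℕ} {g : Perm (Fin n)} {L : List ℕ} (hg : ∀ i : Fin n, (g i : ℕ) = ev L i) (k : ℕ) :
    g ^ k = 1 ↔ allB (fun i => Nat.beq (itr (ev L) k i) i) n = true := by
  rw [allB_iff]
  constructor
  · intro h i hi
    have h1 := pow_eq hg k ⟨i, hi⟩
    rw [h] at h1
    have h2 : i = itr (ev L) k i := h1
    rw [← h2]
    exact Nat.beq_refl _
  · intro h
    refine Equiv.ext fun i => Fin.ext ?_
    rw [pow_eq hg]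
    exact Nat.eq_of_beq_eq_true (h i i.2)

theorem hasOrd_of_ev {n : ℕ} {G : Subgroup (Perm (Fin n))} {L : List ℕ} (h : ∀ P ∈ L, InG G P) {m : ℕ}
    (hm : 0 < m) (ps : List ℕ) (hps : ∀ p ∈ m.primeFactors, p ∈ ps) (hchk : ordChk n L m ps = true) :
    HasOrd G m := by
  obtain ⟨g, hg, hgi⟩ := exists_ev L h
  rw [ordChk, band_eq_true, List.all_eq_true] at hchk
  refine ⟨⟨g, hg⟩, orderOf_eq_of_pow_and_pow_div_prime hm ?_ fun p hp hd => ?_⟩
  · exact Subtype.ext ((pow_eq_one_iff hgi m).2 hchk.1)
  · intro h1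
    have h2 := hchk.2 p (hps p (Nat.mem_primeFactors.2 ⟨hp, hd, hm.ne'⟩))
    rw [(pow_eq_one_iff hgi (m / p)).1 (congrArg Subtype.val h1)] at h2
    exact absurd h2 (by decide)

end Cfsg.Agent.H153.Zeros

private theorem dce_a8c5dc4d45e3 : _root_.True := by
  try have : _root_.True := by simp only [_root_.Cfsg.Agent.H153.Zeros.ordChk.eq_1]
  exact _root_.True.intro
end

-- part: H93/PReg/TorusS
section
set_option linter.all false
open scoped Cfsg.Agent.FastGrp

/-!
# Orbits on the powers whose order is divisible by a given prime `s` (for S4883)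
-/

set_option autoImplicit false

namespace Cfsg.Agent.H93.PReg

open Cfsg.Agent.H92.KTools Polynomial Matrix

universe u

variable {S : Type u} [Group S] {A : Set ℕ} {n : ℕ}
  {F K : Type*} [Field F] [Field K] [Algebra F K] {ι : Type*} [Fintype ι] [DecidableEq ι]
  {H : Type*} [Group H] {ρ : H →* Matrix ι ι F} {π : H →* S} {W : Type*} [Finite W]

/-- the order of an eigenvalue divides the order of the element -/
theorem orderOf_root_dvd (t : H) (x : K) (hx : aeval x (ρ t).charpoly = 0) : orderOf x ∣ orderOf t := by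
  apply orderOf_dvd_of_pow_eq_one
  have h1 := root_pow hx (orderOf t)
  rw [← map_pow, pow_orderOf_eq_one, map_one, Matrix.charpoly_one, map_pow, map_sub, aeval_X, map_one] at h1
  by_cases hι : Fintype.card ι = 0
  · rw [hι, pow_zero] at h1
    exact absurd h1 one_ne_zero
  · exact sub_eq_zero.1 ((pow_eq_zero_iff hι).1 h1)

theorem prime_dvd_order {s c : ℕ} (hs : s.Prime) (hker : ∀ g : H, π g = 1 → g ^ c = 1) (hsc : ¬ s ∣ c) (t : H)
    (x : K) (hx : aeval x (ρ t).charpoly = 0) (k : ℕ) (h : s ∣ orderOf (x ^ k)) : s ∣ orderOf (π (t ^ k)) := by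
  have hx' : aeval (x ^ k) (ρ (t ^ k)).charpoly = 0 := by
    rw [map_pow]; exact root_pow hx k
  have h1 : s ∣ orderOf (t ^ k) := h.trans (orderOf_root_dvd _ _ hx')
  have h2 : orderOf (t ^ k) ∣ orderOf (π (t ^ k)) * c := by
    apply orderOf_dvd_of_pow_eq_one
    rw [pow_mul]
    apply hker
    rw [map_pow, pow_orderOf_eq_one]
  exact (hs.dvd_mul.1 (h1.trans h2)).resolve_right hsc

theorem card_filter_dvd (N m : ℕ) (hm : m ∣ N) :
    ((Finset.range N).filter fun k => ¬ m ∣ k).card = N - N / m := by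
  have h1 : ((Finset.range N).filter fun k => m ∣ k).card = N / m := by
    rcases Nat.eq_zero_or_pos m with rfl | hm0
    · obtain rfl := Nat.eq_zero_of_zero_dvd hm
      simp
    · obtain ⟨c, rfl⟩ := hm
      rw [Nat.mul_div_cancel_left _ hm0]
      have : (Finset.range (m * c)).filter (fun k => m ∣ k) = (Finset.range c).image (fun i => m * i) := by
        ext k
        simp only [Finset.mem_filter, Finset.mem_range, Finset.mem_image]
        constructor
        · rintro ⟨h, i, rfl⟩
          exact ⟨i, Nat.lt_of_mul_lt_mul_left h, rfl⟩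
        · rintro ⟨i, hi, rfl⟩
          exact ⟨Nat.mul_lt_mul_of_pos_left hi hm0, Dvd.intro i rfl⟩
      rw [this, Finset.card_image_of_injective, Finset.card_range]
      intro a b hab
      exact Nat.eq_of_mul_eq_mul_left hm0 hab
  have h2 := Finset.card_filter_add_card_filter_not (s := Finset.range N) (fun k => m ∣ k)
  rw [Finset.card_range, h1] at h2
  omega

/-- **the powers of order divisible by `s`** -/
theorem MO.of_root_s {p s c : ℕ} (hC : Ctl ρ π W) (t : H) (ht : ¬ p ∣ orderOf t) (x : K)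
    (hx : aeval x (ρ t).charpoly = 0) (hs : s.Prime) (hker : ∀ g : H, π g = 1 → g ^ c = 1) (hsc : ¬ s ∣ c)
    (h : (n - 1) * (Fintype.card ι * Nat.card W) < orderOf x - orderOf x / s ^ (orderOf x).factorization s) :
    MO {m | s ∣ m ∧ ¬ p ∣ m} n S := by
  refine MO.of_exps hC t x hx ((Finset.range (orderOf x)).filter fun k => ¬ s ^ (orderOf x).factorization s ∣ k)
    (fun k hk => ?_) ?_
  · rw [Finset.mem_filter, Finset.mem_range] at hk
    refine ⟨hk.1, prime_dvd_order hs hker hsc t x hx k ?_, ?_⟩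
    · have hk0 : k ≠ 0 := by
        rintro rfl
        exact hk.2 (dvd_zero _)
      rw [orderOf_pow' x hk0]
      by_contra hcon
      apply hk.2
      have h1 : s ^ (orderOf x).factorization s ∣ (orderOf x).gcd k * (orderOf x / (orderOf x).gcd k) := by
        rw [Nat.mul_div_cancel' (Nat.gcd_dvd_left _ _)]
        exact Nat.ordProj_dvd _ _
      have h2 : Nat.Coprime (s ^ (orderOf x).factorization s) (orderOf x / (orderOf x).gcd k) :=
        Nat.Coprime.pow_left _ ((Nat.Prime.coprime_iff_not_dvd hs).2 hcon)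
      exact (h2.dvd_of_dvd_mul_right h1).trans (Nat.gcd_dvd_right _ _)
    · exact fun hd => ht (hd.trans ((orderOf_map_dvd π _).trans (orderOf_pow_dvd k)))
  · rw [card_filter_dvd _ _ (Nat.ordProj_dvd _ _)]
    exact h

/-- making the order of the element prime to `p` -/
theorem exists_reg [Finite H] {p : ℕ} (hp : p.Prime) (t : H) (x : K) (hx : aeval x (ρ t).charpoly = 0)
    (hpx : ¬ p ∣ orderOf x) :
    ∃ (t' : H) (x' : K), aeval x' (ρ t').charpoly = 0 ∧ ¬ p ∣ orderOf t' ∧ orderOf x' = orderOf x := by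
  have ht0 : orderOf t ≠ 0 := (orderOf_pos t).ne'
  refine ⟨t ^ p ^ (orderOf t).factorization p, x ^ p ^ (orderOf t).factorization p, ?_, ?_, ?_⟩
  · rw [map_pow]
    exact root_pow hx _
  · rw [orderOf_pow_of_dvd (pow_ne_zero _ hp.ne_zero) (Nat.ordProj_dvd _ _)]
    exact Nat.not_dvd_ordCompl hp ht0
  · rw [Nat.Coprime.orderOf_pow]
    exact Nat.Coprime.pow_right _ ((Nat.Prime.coprime_iff_not_dvd hp).2 hpx).symm

/-- version with numerals -/
theorem MO.of_root_s' [Finite H] {p s c a N : ℕ} (hC : Ctl ρ π W) (t : H) (hp : p.Prime) (hpN : ¬ p ∣ N) (x : K)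
    (hx : aeval x (ρ t).charpoly = 0) (hN : orderOf x = N) (hN0 : N ≠ 0) (hs : s.Prime)
    (hker : ∀ g : H, π g = 1 → g ^ c = 1) (hsc : ¬ s ∣ c) (hsa : ¬ s ^ (a + 1) ∣ N) (hsa' : s ^ a ∣ N)
    (h : (n - 1) * (Fintype.card ι * Nat.card W) < N - N / s ^ a) :
    MO {m | s ∣ m ∧ ¬ p ∣ m} n S := by
  have hfac : N.factorization s = a := by
    have h1 : a ≤ N.factorization s := (Nat.Prime.pow_dvd_iff_le_factorization hs hN0).1 hsa'
    have h2 : ¬ a + 1 ≤ N.factorization s := fun h2 => hsa ((Nat.Prime.pow_dvd_iff_le_factorization hs hN0).2 h2)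
    omega
  obtain ⟨t', x', hx', ht', ho'⟩ := exists_reg hp t x hx (by rw [hN]; exact hpN)
  refine MO.of_root_s hC t' ht' x' hx' hs hker hsc ?_
  rw [ho', hN, hfac]
  exact h

end Cfsg.Agent.H93.PReg
end
end
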