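import Cfsg.Agent.H771.KTools_m3
import Cfsg.Agent.KFacts.J3
import Cfsg.Agent.KFacts.QMinus
import Cfsg.Agent.Lib.FastPerm
import Cfsg.Agent.FastGrp
import Cfsg.Agent.Prune
set_option linter.all false
open scoped Cfsg.Agent.FastGrp

/-!
# `12 ≤ k(G)` for `G = J3` (helper771)
-/

set_option autoImplicit false

namespace Cfsg.Agent.H771.KJ3

open Subgroup Cfsg Cfsg.Agent.H92.KTools Cfsg.Agent.H771.KTools
open Cfsg.Spor Cfsg.Agent.J3.Core Cfsg.Agent.J3.Elts Cfsg.Agent.J2Type.CStruct Cfsg.Agent.J2Type.Model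

section model

variable {C : Type*} [Group C] {Q : Subgroup C} {z : C} {v : Fin 5 → C} {ρ : C →* SP}

theorem two_fixed : ∀ σ : Equiv.Perm (Fin 5), σ * σ * σ = 1 → ∃ i j, i ≠ j ∧ σ i = i ∧ σ j = j := by
  (set_option synthInstance.maxSize 9000 in open scoped Cfsg.Agent.Lib.FastPerm in decide +kernel)

theorem perm_sixteen : ∀ σ : Equiv.Perm (Fin 5), Equiv.Perm.sign σ = 1 →
    σ ^ 16 = 1 → σ * σ = 1 := by
  (set_option synthInstance.maxSize 9000 in open scoped Cfsg.Agent.Lib.FastPerm in decide +kernel)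

theorem comm_v (M : IsModel Q z v ρ) {c : C} (hc : c * c * c = 1) {i : Fin 5} (hi : (ρ c).σ i = i) :
    c * v i = v i * c := by
  have h1 := M.conj c i
  rw [hi] at h1
  have h2 : ∀ a : ZMod 2, zp z a = 1 ∨ zp z a = z := by
    intro a
    by_cases h : a = 0
    · left; rw [h, zp_zero]
    · right; exact if_neg h
  rcases h2 ((ρ c).s i) with h | h
  · rw [h, one_mul] at h1
    exact mul_inv_eq_iff_eq_mul.1 h1
  · exfalso
    rw [h] at h1
    have h3 : c * (c * v i * c⁻¹) * c⁻¹ = v i := by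
      rw [h1]
      calc c * (z * v i) * c⁻¹ = (c * z) * v i * c⁻¹ := by group
        _ = z * (c * v i * c⁻¹) := by rw [M.z_comm]; group
        _ = z * z * v i := by rw [h1]; group
        _ = v i := by rw [M.z_sq, one_mul]
    have h4 : c * (c * (c * v i * c⁻¹) * c⁻¹) * c⁻¹ = v i := by
      calc c * (c * (c * v i * c⁻¹) * c⁻¹) * c⁻¹ = (c * c * c) * v i * (c * c * c)⁻¹ := by group
        _ = v i := by rw [hc]; group
    rw [h3, h1] at h4
    exact M.z_ne (mul_eq_right.1 h4)

/-- an element of order 12 -/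
theorem twelve (M : IsModel Q z v ρ) (h3 : HasOrd C 3) : HasOrd C 12 := by
  obtain ⟨c, hc⟩ := h3
  have hc3 : c * c * c = 1 := by
    have := pow_orderOf_eq_one c
    rw [hc] at this
    rwa [pow_succ, pow_two] at this
  have hs : (ρ c).σ * (ρ c).σ * (ρ c).σ = 1 := by
    have h1 : ρ c * ρ c * ρ c = 1 := by rw [← map_mul, ← map_mul, hc3, map_one]
    exact congrArg SP.σ h1
  obtain ⟨i, j, hij, hi, hj⟩ := two_fixed _ hs
  have h4 : orderOf (v i * v j) = 4 := by
    have h5 : v i * v j * (v i * v j) = z := by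
      calc v i * v j * (v i * v j) = (v i * v j) * (z * (v j * v i)) := by rw [M.v_anti i j hij]
        _ = (v i * v j * z) * (v j * v i) := by group
        _ = z * (v i * (v j * v j) * v i) := by rw [M.z_comm]; group
        _ = z := by rw [M.v_sq, mul_one, M.v_sq, mul_one]
    refine orderOf_eq_prime_pow (p := 2) (n := 1) ?_ ?_
    · rw [pow_one, pow_two, h5]; exact M.z_ne
    · rw [pow_succ, pow_one, pow_mul, pow_two, pow_two, h5, M.z_sq]
  have hcomm : Commute c (v i * v j) := Commute.mul_right (comm_v M hc3 hi) (comm_v M hc3 hj)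
  exact HasOrd.mul_of_commute (a := 3) (b := 4) hc h4 hcomm (by decide)

/-- elements of 2-power order have order at most 8 -/
theorem pow_eight (M : IsModel Q z v ρ) {c : C} (hc : c ^ 16 = 1) : c ^ 8 = 1 := by
  have hs : Equiv.Perm.sign (ρ c).σ = 1 := ((M.range _).1 ⟨c, rfl⟩).1
  have h1 : (ρ c).σ ^ 16 = 1 := by
    have h2 : ρ c ^ 16 = 1 := by rw [← map_pow, hc, map_one]
    have h3 : ∀ (n : ℕ) (g : SP), (g ^ n).σ = g.σ ^ n := by
      intro n g
      induction n with
      | zero => rfl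
      | succ n ih => rw [pow_succ, pow_succ, ← ih]; rfl
    rw [← h3, h2]; rfl
  have h2 := perm_sixteen _ hs h1
  have h3 : c * c ∈ Q := by
    rw [M.mem_Q, map_mul]
    exact h2
  have h4 := KFacts.QMinus.sq_mem M h3
  have h5 : c ^ 4 = c * c * (c * c) := by rw [show (4 : ℕ) = 2 * 2 from rfl, pow_mul, pow_two, pow_two]
  rw [show (8 : ℕ) = 4 * 2 from rfl, pow_mul, h5, pow_two]
  rcases h4 with h | h
  · rw [h, one_mul]
  · rw [h, M.z_sq]

end model

/-- elements of order 17, no element of order 16 -/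
theorem not_conj_seventeen {G : Type*} [Group G] [Finite G] (h16 : ¬ HasOrd G 16) {x : G} (hx : orderOf x = 17) :
    ¬ IsConj x (x ^ 3) := by
  intro h
  obtain ⟨g, hg⟩ := isConj_iff.1 h
  have hpow : ∀ k : ℕ, g ^ k * x * (g ^ k)⁻¹ = x ^ (3 ^ k) := by
    intro k
    induction k with
    | zero => simp
    | succ k ih =>
      rw [pow_succ', mul_inv_rev]
      calc g * g ^ k * x * ((g ^ k)⁻¹ * g⁻¹) = g * (g ^ k * x * (g ^ k)⁻¹) * g⁻¹ := by group
        _ = g * x ^ (3 ^ k) * g⁻¹ := by rw [ih]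
        _ = (g * x * g⁻¹) ^ (3 ^ k) := by rw [conj_pow]
        _ = x ^ (3 ^ (k + 1)) := by rw [hg, ← pow_mul, ← pow_succ']
  obtain ⟨a, m, hm, he⟩ := Nat.exists_eq_two_pow_mul_odd (orderOf_pos g).ne'
  have ha : a ≤ 3 := by
    by_contra hlt
    refine h16 (HasOrd.of_dvd ⟨g, rfl⟩ ?_ (orderOf_pos g).ne')
    rw [he]
    exact Dvd.dvd.mul_right (pow_dvd_pow 2 (by omega : 4 ≤ a)) m
  have h1 : g ^ (8 * m) = 1 := by
    apply orderOf_dvd_iff_pow_eq_one.1
    rw [he]
    exact Nat.mul_dvd_mul_right (pow_dvd_pow 2 (n := 3) ha) m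
  have h2 := hpow (8 * m)
  rw [h1, inv_one, one_mul, mul_one] at h2
  have h3 : 3 ^ (8 * m) ≡ 1 [MOD 17] := by
    have h5 : x ^ (3 ^ (8 * m)) = x ^ 1 := by rw [← h2, pow_one]
    have := pow_eq_pow_iff_modEq.1 h5
    rwa [hx] at this
  rw [pow_mul] at h3
  have h5 : (3 ^ 8) ^ m ≡ 16 ^ m [MOD 17] := Nat.ModEq.pow m (by decide)
  have h6 := h5.symm.trans h3
  obtain ⟨k, rfl⟩ := hm
  have h7 : (16 : ℕ) ^ (2 * k + 1) ≡ 16 [MOD 17] := by
    rw [pow_succ, pow_mul]
    have : (16 ^ 2) ^ k ≡ 1 ^ k [MOD 17] := Nat.ModEq.pow k (by decide)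
    rw [one_pow] at this
    exact (this.mul_right 16)
  have h8 := h7.symm.trans h6
  exact absurd h8 (by decide)

/-- an element of order 8 -/
theorem eight {K : Type*} [Group K] (h : IsoJ3 K) : HasOrd K 8 := by
  obtain ⟨F, _, _, ω, hF, hω, ⟨e⟩⟩ := h
  have H := good_of_card hF hω
  obtain ⟨G⟩ := exists_gens hF H
  refine HasOrd.of_equiv ?_ e.symm
  set x := G.b J3.Order.u0 with hx
  have h8 : orderOf x = 8 := J3.Order.orderOf_b G H
  refine ⟨QuotientGroup.mk x, orderOf_eq_prime_pow (p := 2) (n := 2) ?_ ?_⟩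
  · intro h1
    rw [← QuotientGroup.mk_pow, QuotientGroup.eq_one_iff] at h1
    have h2 := KFacts.J3W.center_cube hF H h1 (by
      rw [← pow_add]
      show x ^ 8 = 1
      rw [← h8, pow_orderOf_eq_one])
    have h3 := orderOf_dvd_of_pow_eq_one h2
    rw [h8] at h3
    exact absurd h3 (by norm_num)
  · rw [← QuotientGroup.mk_pow, show (2 : ℕ) ^ (2 + 1) = 8 from rfl, ← h8, pow_orderOf_eq_one]; rfl

theorem j3 {S : Type*} [Group S] (h : Spor.IsoJ3 S) : 12 ≤ Nat.card (ConjClasses S) := by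
  obtain ⟨-, z, Q, v, ρ, n, u, D⟩ := KFacts.J3.exists_facts h
  have hcard := D.card_K
  have hfin : Finite S := Nat.finite_of_card_ne_zero (by rw [hcard]; norm_num)
  have h8 := eight h
  have hzz : z * z = 1 := congrArg Subtype.val D.model.z_sq
  have hz1 : z ≠ 1 := fun h => D.model.z_ne (Subtype.ext h)
  have h12 : HasOrd S 12 := (twelve D.model (hasOrd_prime (by norm_num) (by rw [D.card_C]; norm_num))).of_subgroup
  have h16 : ¬ HasOrd S 16 := by
    rintro ⟨g, hg⟩
    have h1 : g ^ 8 ≠ 1 := pow_ne_one_of_lt_orderOf (by norm_num) (by rw [hg]; norm_num)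
    have h2 : g ^ 8 * g ^ 8 = 1 := by rw [← pow_add, ← pow_orderOf_eq_one g, hg]
    obtain ⟨c, hc⟩ := D.one _ h1 h2
    set w := c⁻¹ * g * c with hw
    have hw8 : w ^ 8 = z := by
      have h3 : w ^ 8 = c⁻¹ * g ^ 8 * c := by
        have := conj_pow (a := c⁻¹) (b := g) (i := 8)
        rw [inv_inv] at this
        exact this
      rw [h3, ← hc]; group
    have hwz : w * z = z * w := by rw [← hw8, ← pow_succ', ← pow_succ]
    have h4 := pow_eight D.model (c := ⟨w, mem_centralizer_singleton_iff.2 hwz⟩) (Subtype.ext (by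
      show w ^ 16 = 1
      rw [show (16 : ℕ) = 8 * 2 from rfl, pow_mul, hw8, pow_two, hzz]))
    have h5 : w ^ 8 = 1 := congrArg Subtype.val h4
    rw [hw8] at h5
    exact hz1 h5
  refine le_trans (by decide) (sum_le (G := S) {1, 2, 3, 4, 5, 6, 8, 10, 12, 17, 19}
    (fun n => if n = 17 then 2 else 1) ?_)
  have hd : ∀ p, p.Prime → p ∣ 50232960 → HasOrd S p := fun p hp hd => hasOrd_prime hp (by rwa [hcard])
  have hall : ∀ m ∈ ({1, 2, 3, 4, 5, 6, 8, 10, 12, 17, 19} : Finset ℕ), HasOrd S m := by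
    intro m hm
    simp only [Finset.mem_insert, Finset.mem_singleton] at hm
    rcases hm with rfl | rfl | rfl | rfl | rfl | rfl | rfl | rfl | rfl | rfl | rfl
    · exact hasOrd_one S
    · exact hd 2 (by norm_num) (by norm_num)
    · exact hd 3 (by norm_num) (by norm_num)
    · exact h8.of_dvd (by norm_num) (by norm_num)
    · exact hd 5 (by norm_num) (by norm_num)
    · exact h12.of_dvd (by norm_num) (by norm_num)
    · exact h8
    · exact two_mul_prime hzz hz1 (p := 5) (by norm_num) (by norm_num) (by rw [D.card_C]; norm_num)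
    · exact h12
    · exact hd 17 (by norm_num) (by norm_num)
    · exact hd 19 (by norm_num) (by norm_num)
  intro m hm
  obtain ⟨g, hg⟩ := hall m hm
  by_cases hm17 : m = 17
  · subst hm17
    refine ⟨[g, g ^ 3], rfl, ?_, ?_⟩
    · have h1 : orderOf (g ^ 3) = 17 := by rw [Nat.Coprime.orderOf_pow (by rw [hg]; decide), hg]
      simp [hg, h1]
    · simp only [List.pairwise_cons, List.mem_singleton, forall_eq, List.not_mem_nil, false_imp_iff,
        implies_true, List.Pairwise.nil, and_true]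
      exact not_conj_seventeen h16 hg
  · exact ⟨[g], by rw [if_neg hm17]; rfl, by simpa using hg, by simp⟩

end Cfsg.Agent.H771.KJ3
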