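import Cfsg.Agent.H759.FusFactor
import Cfsg.Agent.H771.NExt
set_option linter.all false

/-!
# Normal subgroups of factor systems (helper771)

If `Q` is normal in the saturated system `F` and `Aut_F(Q)` is induced by `S`, then the full preimage of a normal
subgroup of `F/Q` is normal in `F`.
-/

set_option autoImplicit false

namespace Cfsg.Agent.H771

open Cfsg Cfsg.FusionSystem Cfsg.Agent.H802

universe u

variable {Ω : Type u} [Group Ω] {S : Subgroup Ω}

/-- Normality criterion relative to a normal subgroup `Q`: only the `U ≥ Q` have to be considered. -/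
theorem isNormal_of_forall_of_le [Finite S] {p : ℕ} [Fact p.Prime] (hS : IsPGroup p S)
    {F : FusionSystem S} (hF : F.IsSaturated p) {Q R : Subgroup Ω} (hQ : F.IsNormal Q)
    (hR : F.StronglyClosed R)
    (hc : ∀ U : Subgroup Ω, F.IsFullyAutomized p U → F.IsReceptive U → Q ≤ U → ¬ R ≤ U →
      ∀ α ∈ F.autGroup U, ∀ (g : Ω) (_ : g ∈ R) (_ : g ∈ Subgroup.normalizer (U : Set Ω)),
        ∃ h ∈ S, ∀ (x : U) (hx : g * (x : Ω) * g⁻¹ ∈ U),
          ((α ⟨g * x * g⁻¹, hx⟩ : U) : Ω) = h * (α x : U) * h⁻¹) :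
    F.IsNormal R := by
  have hfR : Finite R := finite_of_le hR.1
  refine isNormal_of_nExt hR.1 ?_
  refine Cfsg.Agent.H759.saturated_induction F hS hF (fun P φ => NExt F R P φ) ?_ ?_ ?_ ?_
  · intro P R φ χ _ hM hR he
    exact nExt_res hM hR (fun x hx => he ⟨x, hx⟩)
  · intro P R φ ψ χ _ _ hM hM' he
    exact nExt_comp hM hM' he
  · intro P R φ χ _ hM _ he
    exact nExt_inv hM he
  · intro U hUa hUr IH α hα
    have hUS : U ≤ S := hUa.1
    have hUf : Finite U := finite_of_le hUS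
    have hαF : U.subtype.comp α.toMonoidHom ∈ F.Hom U := (mem_autGroup_iff F hUS α).1 hα
    by_cases hQU : Q ≤ U
    · by_cases hRU : R ≤ U
      · have hle : U ⊔ R ≤ U := sup_le le_rfl hRU
        refine ⟨_, restrict_mem hαF hle, fun x hx hx' => rfl, fun y hy hy' => ?_⟩
        exact Cfsg.Agent.H759.StronglyClosed.apply_mem hR (restrict_mem hαF hle)
          (x := ⟨y, hy'⟩) hy
      · -- `α` extends to `U N_R(U)`
        have hrange : (U.subtype.comp α.toMonoidHom).range = U := by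
          ext z
          constructor
          · rintro ⟨x, rfl⟩
            exact (α x).2
          · intro hz
            exact ⟨α.symm ⟨z, hz⟩, congrArg Subtype.val (α.apply_symm_apply ⟨z, hz⟩)⟩
        obtain ⟨ψ, hψ, hψe⟩ := hUr.2 U _ hαF hrange
        have hUE : U ≤ extender S U (U.subtype.comp α.toMonoidHom) :=
          le_extender hUS (hom_apply_mem hαF)
        have hRE : R ⊓ Subgroup.normalizer (U : Set Ω) ≤
            extender S U (U.subtype.comp α.toMonoidHom) := by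
          rintro g ⟨hgR, hgN⟩
          rw [mem_extender_iff]
          obtain ⟨h, hh, hhe⟩ := hc U hUa hUr hQU hRU α hα g hgR hgN
          exact ⟨hR.1 hgR, hgN, h, hh, fun x hx => hhe x hx⟩
        -- `N_R(U)` is not contained in `U`
        have hlt : Nat.card U < Nat.card (extender S U (U.subtype.comp α.toMonoidHom)) := by
          have h1 : U < U ⊔ R := lt_of_le_of_ne le_sup_left (fun h => hRU (h ▸ le_sup_right))
          obtain ⟨g, hg, hgU, hgn⟩ :=
            Cfsg.Agent.H759.exists_mem_normalizer_not_mem hS (sup_le hUS hR.1) h1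
          obtain ⟨q, hq, t, ht, rfl⟩ :=
            (Cfsg.Agent.H759.mem_sup_of_normalizes
              (hUS.trans (Cfsg.Agent.H759.StronglyClosed.le_normalizer hR))).1 hg
          have htU : t ∉ U := fun h => hgU (mul_mem hq h)
          have htn : t ∈ Subgroup.normalizer (U : Set Ω) := by
            have h2 := mul_mem (inv_mem (Subgroup.le_normalizer hq)) hgn
            simpa [← mul_assoc] using h2
          have hlt2 : U < extender S U (U.subtype.comp α.toMonoidHom) := by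
            refine lt_of_le_of_ne hUE (fun h => htU ?_)
            rw [h]
            exact hRE ⟨ht, htn⟩
          have hfE : Finite (extender S U (U.subtype.comp α.toMonoidHom)) :=
            finite_of_le (extender_le _ _ _)
          refine lt_of_le_of_ne (Subgroup.card_le_of_le hlt2.le) (fun h => ?_)
          exact hlt2.ne (Subgroup.eq_of_le_of_card_ge hlt2.le h.ge)
        exact nExt_res (IH _ ψ hψ hlt) hUE (fun x hx => (hψe x hx _).symm)
    · -- `α` extends to `U Q`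
      obtain ⟨ψ, hψ, h1, -⟩ := hQ.2 U _ hαF
      have hlt : Nat.card U < Nat.card (U ⊔ Q : Subgroup Ω) := by
        have h1 : U < U ⊔ Q := lt_of_le_of_ne le_sup_left (fun h => hQU (h ▸ le_sup_right))
        have hfE : Finite (U ⊔ Q : Subgroup Ω) := finite_of_le (sup_le hUS hQ.1)
        refine lt_of_le_of_ne (Subgroup.card_le_of_le h1.le) (fun h => ?_)
        exact h1.ne (Subgroup.eq_of_le_of_card_ge h1.le h.ge)
      exact nExt_res (IH _ ψ hψ hlt) le_sup_left (fun x hx => (h1 ⟨x, hx⟩).symm)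

/-- For `U ≥ Q` fully automized, `Q` normal with `Aut_F(Q) ≤ Aut_S(Q)`: the elements of `Aut_F(U)` trivial on
`U / Q` are induced by `S`. -/
theorem mem_autInducedBy_of_trivial_mod [Finite S] {p : ℕ} [Fact p.Prime] (hS : IsPGroup p S)
    {F : FusionSystem S} {Q : Subgroup Ω} (hQ : F.IsNormal Q)
    (hA : F.autGroup Q ≤ autInducedBy S Q) {U : Subgroup Ω} (hU : F.IsFullyAutomized p U)
    (hQU : Q ≤ U) {κ : MulAut U} (hκ : κ ∈ F.autGroup U)
    (h : ∀ x : U, (x : Ω)⁻¹ * (κ x : U) ∈ Q) : κ ∈ autInducedBy S U := by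
  have hUS := hU.1
  have hUf : Finite U := finite_of_le hUS
  have hQf : Finite Q := finite_of_le hQ.1
  have hsc := Cfsg.Agent.H759.IsNormal.stronglyClosed hQ
  have hN := le_normalizer_of_isNormal hQ
  have hpres : ∀ α ∈ F.autGroup U, ∀ (y : Ω) (hy : y ∈ Q), ((α ⟨y, hQU hy⟩ : U) : Ω) ∈ Q := by
    intro α hα y hy
    exact Cfsg.Agent.H759.StronglyClosed.apply_mem hsc ((mem_autGroup_iff F hUS α).1 hα)
      (x := ⟨y, hQU hy⟩) hy
  let K : Subgroup (MulAut U) :=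
    { carrier := {κ | κ ∈ F.autGroup U ∧ ∀ x : U, (x : Ω)⁻¹ * (κ x : U) ∈ Q}
      one_mem' := ⟨one_mem _, fun x => by simp⟩
      mul_mem' := by
        rintro a b ⟨ha, ha'⟩ ⟨hb, hb'⟩
        refine ⟨mul_mem ha hb, fun x => ?_⟩
        have h1 := ha' (b x)
        have h2 := hb' x
        have h3 := mul_mem h2 h1
        rw [MulAut.mul_apply]
        have h4 : (x : Ω)⁻¹ * (b x : U) * (((b x : U) : Ω)⁻¹ * (a (b x) : U)) =
            (x : Ω)⁻¹ * (a (b x) : U) := by group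
        rwa [h4] at h3
      inv_mem' := by
        rintro a ⟨ha, ha'⟩
        refine ⟨inv_mem ha, fun x => ?_⟩
        have h1 := ha' (a⁻¹ x)
        rw [MulAut.apply_inv_self] at h1
        have h2 := inv_mem h1
        rwa [mul_inv_rev, inv_inv] at h2 }
  have hKn : ∀ a ∈ F.autGroup U, ∀ k ∈ K, a * k * a⁻¹ ∈ K := by
    rintro a ha k ⟨hk, hk'⟩
    refine ⟨mul_mem (mul_mem ha hk) (inv_mem ha), fun x => ?_⟩
    have h1 := hk' (a⁻¹ x)
    have h2 := hpres a ha _ h1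
    have h3 : (⟨((a⁻¹ x : U) : Ω)⁻¹ * (k (a⁻¹ x) : U), hQU h1⟩ : U) = (a⁻¹ x)⁻¹ * k (a⁻¹ x) := rfl
    rw [h3, map_mul, map_inv, MulAut.apply_inv_self] at h2
    exact h2
  have hKp : IsPGroup p K := by
    rintro ⟨k, hk, hk'⟩
    -- restriction to `Q`
    have h1 : ∀ q : Q, ((k ⟨q, hQU q.2⟩ : U) : Ω) ∈ Q := fun q => hpres k hk q q.2
    obtain ⟨β, hβ, hβe⟩ := exists_aut_of_normal hQ hQU ((mem_autGroup_iff F hUS k).1 hk)
    have hβ2 : ∀ q : Q, ((k ⟨q, hQU q.2⟩ : U) : Ω) = ((β q : Q) : Ω) := fun q => hβe q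
    have hβS := hA hβ
    obtain ⟨a, ha⟩ := (isPGroup_autInducedBy hS Q) ⟨β, hβS⟩
    have ha' : β ^ p ^ a = 1 := congrArg Subtype.val ha
    have hpowβ : ∀ (n : ℕ) (q : Q), (((k ^ n) ⟨q, hQU q.2⟩ : U) : Ω) = (((β ^ n) q : Q) : Ω) := by
      intro n
      induction n with
      | zero => intro q; rfl
      | succ n ih =>
        intro q
        rw [pow_succ, MulAut.mul_apply, pow_succ, MulAut.mul_apply]
        have h2 : k ⟨q, hQU q.2⟩ = ⟨(β q : Q), hQU (β q : Q).2⟩ := Subtype.ext (hβ2 q)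
        rw [h2]
        exact ih (β q)
    set m := k ^ p ^ a with hm
    have hmK : m ∈ K := pow_mem (show k ∈ K from ⟨hk, hk'⟩) _
    have hmQ : ∀ q : Q, ((m ⟨q, hQU q.2⟩ : U) : Ω) = q := by
      intro q
      rw [hm, hpowβ, ha']
      rfl
    have hpow : ∀ (n : ℕ) (x : U), (((m ^ n) x : U) : Ω) = x * ((x : Ω)⁻¹ * (m x : U)) ^ n := by
      intro n
      induction n with
      | zero => intro x; simp
      | succ n ih =>
        intro x
        rw [pow_succ', MulAut.mul_apply]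
        have h2 : (m ^ n) x = x * ⟨((x : Ω)⁻¹ * (m x : U)) ^ n, hQU (Q.pow_mem (hmK.2 x) n)⟩ :=
          Subtype.ext (ih x)
        rw [h2, map_mul]
        have h3 := hmQ ⟨((x : Ω)⁻¹ * (m x : U)) ^ n, Q.pow_mem (hmK.2 x) n⟩
        have h4 : ((m x * m ⟨((x : Ω)⁻¹ * (m x : U)) ^ n, hQU (Q.pow_mem (hmK.2 x) n)⟩ : U) : Ω) =
            (m x : U) * ((x : Ω)⁻¹ * (m x : U)) ^ n := by
          show ((m x : U) : Ω) * _ = _
          rw [h3]
        rw [h4, pow_succ', ← mul_assoc, mul_inv_cancel_left]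
    obtain ⟨b, hb⟩ : ∃ b : ℕ, Nat.card S = p ^ b := (IsPGroup.iff_card).1 hS
    refine ⟨a + b, Subtype.ext ?_⟩
    show k ^ p ^ (a + b) = 1
    rw [pow_add, pow_mul, ← hm]
    apply MulEquiv.ext
    intro x
    apply Subtype.ext
    rw [hpow]
    have h5 : ((x : Ω)⁻¹ * (m x : U)) ^ p ^ b = 1 := by
      have h6 : (⟨(x : Ω)⁻¹ * (m x : U), hQ.1 (hmK.2 x)⟩ : S) ^ Nat.card S = 1 := pow_card_eq_one'
      have h7 := congrArg Subtype.val h6
      rw [hb] at h7
      exact h7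
    rw [h5, mul_one]
    rfl
  exact Cfsg.Agent.H759.le_autInducedBy_of_normal hU K (fun k hk => hk.1) hKn hKp ⟨hκ, h⟩

/-- **Normal subgroups of the factor system lift**, when `Aut_F(Q)` is induced by `S`. -/
theorem isNormal_preimage [Finite S] {p : ℕ} [Fact p.Prime] (hS : IsPGroup p S)
    {F : FusionSystem S} (hF : F.IsSaturated p) {Q : Subgroup Ω} (hQ : F.IsNormal Q)
    (hA : F.autGroup Q ≤ autInducedBy S Q) {Ω' : Type*} [Group Ω'] {S' : Subgroup Ω'}
    {θ : S →* Ω'} {E : FusionSystem S'} (hE : F.IsFactorSystem Q θ E) {V : Subgroup Ω'}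
    (hV : E.IsNormal V) : F.IsNormal (preimageAlong θ V) := by
  have hsc := Cfsg.Agent.H759.IsNormal.stronglyClosed hQ
  have hVsc := Cfsg.Agent.H759.IsNormal.stronglyClosed hV
  have hRsc := Cfsg.Agent.H759.stronglyClosed_preimage hS hF hsc hE hVsc
  refine isNormal_of_forall_of_le hS hF hQ hRsc ?_
  intro U hUa hUr hQU _ α hα g hgR hgN
  have hUS := hUa.1
  have hUf : Finite U := finite_of_le hUS
  have hαF : U.subtype.comp α.toMonoidHom ∈ F.Hom U := (mem_autGroup_iff F hUS α).1 hα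
  set U' := imageAlong θ U with hU'
  have hU'S : U' ≤ S' := by
    rw [← hE.2.2.1]
    exact Cfsg.Agent.H759.imageAlong_le_range
  have hpre : preimageAlong θ U' ≤ U := by
    intro y hy
    obtain ⟨hyS, hy'⟩ := Cfsg.Agent.H759.mem_preimageAlong.1 hy
    obtain ⟨r, hr, hrR, hry⟩ := Cfsg.Agent.H759.mem_imageAlong.1 hy'
    have h1 := (Cfsg.Agent.H759.theta_eq_iff hE).1 hry
    have h2 : y = r * (r⁻¹ * y) := by group
    rw [h2]
    exact U.mul_mem hrR (hQU h1)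
  obtain ⟨α', hα', hα'e⟩ := Cfsg.Agent.H759.exists_factor_map hsc hE hαF hU'S hpre
  obtain ⟨ψ', hψ', hψ'1, hψ'2⟩ := nExt_of_isNormal hV hα'
  obtain ⟨ψ, hψ, hψe⟩ := Cfsg.Agent.H759.exists_map_of_factor hE hψ'
  have hUV : ∀ (x : Ω) (hx : x ∈ U), x ∈ preimageAlong θ (U' ⊔ V) := by
    intro x hx
    refine Cfsg.Agent.H759.mem_preimageAlong.2 ⟨hUS hx, (le_sup_left : U' ≤ U' ⊔ V) ?_⟩
    exact Cfsg.Agent.H759.mem_imageAlong.2 ⟨x, hUS hx, hx, rfl⟩
  have hgV : g ∈ preimageAlong θ (U' ⊔ V) :=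
    Cfsg.Agent.H759.preimageAlong_mono le_sup_right hgR
  have hgS : g ∈ S := hRsc.1 hgR
  set h : Ω := ψ ⟨g, hgV⟩ with hh
  have hhS : h ∈ S := hom_apply_mem hψ _
  -- `ψ x ≡ α x` modulo `Q` for `x ∈ U`
  have hψα : ∀ (x : Ω) (hx : x ∈ U), ((α ⟨x, hx⟩ : U) : Ω)⁻¹ * ψ ⟨x, hUV x hx⟩ ∈ Q := by
    intro x hx
    have hxU' : θ ⟨x, hUS hx⟩ ∈ U' := Cfsg.Agent.H759.mem_imageAlong.2 ⟨x, hUS hx, hx, rfl⟩
    have h1 := hα'e x hx (hUS hx) hxU' (hUS (α ⟨x, hx⟩ : U).2)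
    have h2 := hψe x (hUV x hx) (hUS hx) ((le_sup_left : U' ≤ U' ⊔ V) hxU') (hom_apply_mem hψ _)
    have h3 := hψ'1 (θ ⟨x, hUS hx⟩) hxU' ((le_sup_left : U' ≤ U' ⊔ V) hxU')
    rw [h2, h1] at h3
    exact (Cfsg.Agent.H759.theta_eq_iff hE).1 h3.symm
  have hN := le_normalizer_of_isNormal hQ
  have hQn : ∀ s ∈ S, ∀ y ∈ Q, s * y * s⁻¹ ∈ Q := fun s hs y hy =>
    (Subgroup.mem_normalizer_iff.1 (hN hs) y).1 hy
  -- `h (α x) h⁻¹ ≡ α (g x g⁻¹)` modulo `Q`
  have hconj : ∀ (x : U) (hx : g * (x : Ω) * g⁻¹ ∈ U),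
      ((α ⟨g * x * g⁻¹, hx⟩ : U) : Ω)⁻¹ * (h * (α x : U) * h⁻¹) ∈ Q := by
    intro x hx
    have h1 := hψα _ hx
    have h2 : ψ ⟨g * x * g⁻¹, hUV _ hx⟩ = h * ψ ⟨x, hUV x x.2⟩ * h⁻¹ := by
      rw [hh, ← map_inv, ← map_mul, ← map_mul]
      rfl
    rw [h2] at h1
    have h3 := hψα x x.2
    have h4 : ((α ⟨g * x * g⁻¹, hx⟩ : U) : Ω)⁻¹ * (h * (α x : U) * h⁻¹) =
        ((α ⟨g * x * g⁻¹, hx⟩ : U) : Ω)⁻¹ * (h * ψ ⟨x, hUV x x.2⟩ * h⁻¹) *
          (h * (((α x : U) : Ω)⁻¹ * ψ ⟨x, hUV x x.2⟩)⁻¹ * h⁻¹) := by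
      rw [mul_inv_rev, inv_inv]
      group
    rw [h4]
    exact Q.mul_mem h1 (hQn h hhS _ (inv_mem h3))
  have hgU : ∀ x ∈ U, g * x * g⁻¹ ∈ U := fun x hx => (Subgroup.mem_normalizer_iff.1 hgN x).1 hx
  have hhU : ∀ x ∈ U, h * x * h⁻¹ ∈ U := by
    intro x hx
    have h1 := hconj (α⁻¹ ⟨x, hx⟩) (hgU _ (α⁻¹ ⟨x, hx⟩).2)
    rw [MulAut.apply_inv_self] at h1
    have h2 := U.mul_mem (α ⟨g * (α⁻¹ ⟨x, hx⟩ : U) * g⁻¹, hgU _ (α⁻¹ ⟨x, hx⟩).2⟩).2 (hQU h1)
    rwa [mul_inv_cancel_left] at h2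
  have hhN : h ∈ Subgroup.normalizer (U : Set Ω) := by
    have hle : U.map (MulAut.conj h).toMonoidHom ≤ U := by
      rintro _ ⟨z, hz, rfl⟩
      exact hhU z hz
    have hcard : Nat.card (U.map (MulAut.conj h).toMonoidHom) = Nat.card U :=
      Nat.card_congr (U.equivMapOfInjective _ (MulAut.conj h).injective).symm.toEquiv
    have heq : U.map (MulAut.conj h).toMonoidHom = U :=
      Subgroup.eq_of_le_of_card_ge hle hcard.ge
    refine Subgroup.mem_normalizer_iff.2 fun z => ⟨hhU z, fun hz => ?_⟩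
    have hz' : h * z * h⁻¹ ∈ U.map (MulAut.conj h).toMonoidHom := by
      rw [heq]
      exact hz
    obtain ⟨w, hw, hwe⟩ := hz'
    have : h * w * h⁻¹ = h * z * h⁻¹ := hwe
    have hwz : w = z := mul_left_cancel (mul_right_cancel this)
    rw [← hwz]
    exact hw
  obtain ⟨γ, hγ⟩ := exists_conjAut hgN
  obtain ⟨δ, hδ⟩ := exists_conjAut hhN
  have hγm : γ ∈ F.autGroup U := autInducedBy_le_autGroup F hUS
    ((mem_autInducedBy_iff S U γ).2 ⟨g, hgS, hγ⟩)
  have hδm : δ ∈ autInducedBy S U := (mem_autInducedBy_iff S U δ).2 ⟨h, hhS, hδ⟩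
  have hδm' : δ ∈ F.autGroup U := autInducedBy_le_autGroup F hUS hδm
  -- `κ = δ⁻¹ (α γ α⁻¹)`
  have hκ : δ⁻¹ * (α * γ * α⁻¹) ∈ autInducedBy S U := by
    refine mem_autInducedBy_of_trivial_mod hS hQ hA hUa hQU
      (mul_mem (inv_mem hδm') (mul_mem (mul_mem hα hγm) (inv_mem hα))) (fun x => ?_)
    set y := α⁻¹ x with hy
    have hyx : α y = x := by rw [hy, MulAut.apply_inv_self]
    have h1 := hconj y (hgU _ y.2)
    rw [hyx] at h1
    have h2 : (α * γ * α⁻¹) x = α ⟨g * y * g⁻¹, hgU _ y.2⟩ := by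
      rw [MulAut.mul_apply, MulAut.mul_apply, ← hy]
      congr 1
      exact Subtype.ext (hγ y)
    rw [MulAut.mul_apply, h2]
    set w := α ⟨g * y * g⁻¹, hgU _ y.2⟩ with hw
    -- `x⁻¹ δ⁻¹(w)` with `w⁻¹ δ(x) ∈ Q`
    have h3 : ((δ⁻¹ w : U) : Ω) = h⁻¹ * w * h := by
      have h4 := hδ (δ⁻¹ w)
      rw [MulAut.apply_inv_self] at h4
      rw [h4]
      group
    rw [h3]
    have h5 : (x : Ω)⁻¹ * (h⁻¹ * w * h) = h⁻¹ * ((w : Ω)⁻¹ * (h * x * h⁻¹))⁻¹ * h⁻¹⁻¹ := by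
      rw [mul_inv_rev, inv_inv]
      group
    rw [h5]
    exact hQn _ (inv_mem hhS) _ (inv_mem h1)
  have hfin : α * γ * α⁻¹ ∈ autInducedBy S U := by
    have := mul_mem hδm hκ
    rwa [mul_inv_cancel_left] at this
  obtain ⟨k, hk, hke⟩ := (mem_autInducedBy_iff S U _).1 hfin
  refine ⟨k, hk, fun x hx => ?_⟩
  have h1 := hke (α x)
  rw [MulAut.mul_apply, MulAut.mul_apply, MulAut.inv_apply_self] at h1
  rw [← h1]
  congr 2
  exact Subtype.ext (hγ x).symm

end Cfsg.Agent.H771
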