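import Cfsg.Agent.H771.KTools_m3
import Cfsg.Agent.SporRec.TwoSp6.Sp
import Cfsg.Agent.Prune
set_option linter.all false
open scoped Cfsg.Agent.FastGrp

/-!
# Element orders of `Sp₆(2)` (helper771)
-/

set_option autoImplicit false

namespace Cfsg.Agent.H771.KSp6

open Subgroup Cfsg Cfsg.Agent.H92.KTools Cfsg.Agent.H771.KTools Cfsg.Agent.SporRec.TwoSp6.Sp

/-- a word in the seven transvections -/
def ev (w : List (Fin 7)) : S := (w.map fun i => tr (v i)).prod

/-- the action on codes -/
def run : List (Fin 7) → ℕ → ℕ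
  | [], c => c
  | i :: w, c => st i (run w c)

theorem act_ev (w : List (Fin 7)) (c : ℕ) : act (ev w) (enc c) = enc (run w c) := by
  induction w with
  | nil => rw [ev, List.map_nil, List.prod_nil, act_one]; rfl
  | cons i w ih =>
    have h : ev (i :: w) = tr (v i) * ev w := by rw [ev, List.map_cons, List.prod_cons]; rfl
    rw [h, act_mul, ih, act_enc]; rfl

theorem act_pow (w : List (Fin 7)) (n : ℕ) (c : ℕ) : act (ev w ^ n) (enc c) = enc ((run w)^[n] c) := by
  induction n generalizing c with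
  | zero => rw [pow_zero, act_one]; rfl
  | succ n ih => rw [pow_succ, act_mul, act_ev, ih, Function.iterate_succ_apply]

theorem enc_inj : ∀ c < 64, ∀ d < 64, enc c = enc d → c = d := by
  have h : ∀ c < 64, (enc c (Sum.inl 0)).val + 2 * (enc c (Sum.inl 1)).val + 4 * (enc c (Sum.inl 2)).val +
      8 * (enc c (Sum.inr 0)).val + 16 * (enc c (Sum.inr 1)).val + 32 * (enc c (Sum.inr 2)).val = c := by decide +kernel
  intro c hc d hd e
  rw [← h c hc, e, h d hd]

/-- the check -/
def chk (w : List (Fin 7)) (n : ℕ) (l : List ℕ) : Bool :=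
  ((List.range 64).all fun c => Nat.beq ((run w)^[n] c) c) &&
    l.all fun p => (List.range 64).any fun c => !Nat.beq ((run w)^[n / p] c) c && Nat.blt ((run w)^[n / p] c) 64

theorem hasOrd {w : List (Fin 7)} {n : ℕ} {l : List ℕ} (hn : 0 < n) (hl : n.primeFactors = l.toFinset)
    (h : chk w n l = true) : HasOrd S n := by
  unfold chk at h
  rw [Bool.and_eq_true, List.all_eq_true, List.all_eq_true] at h
  obtain ⟨h1, h2⟩ := h
  refine hasOrd_of_pow (x := ev w) hn ?_ ?_
  · apply act_ext
    intro x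
    obtain ⟨c, hc, rfl⟩ := exists_enc x
    rw [act_pow, act_one, Nat.eq_of_beq_eq_true (h1 c (List.mem_range.2 hc))]
  · intro p hp hc
    rw [hl, List.mem_toFinset] at hp
    obtain ⟨c, hc64, hcc⟩ := List.any_eq_true.1 (h2 p hp)
    rw [Bool.and_eq_true, Bool.not_eq_true'] at hcc
    have h3 := act_pow w (n / p) c
    rw [hc, act_one] at h3
    have h4 := enc_inj _ (List.mem_range.1 hc64) _ (by simpa using hcc.2) h3
    rw [← h4] at hcc
    simp at hcc

/-- the table of `st` -/
def fSt (i c : ℕ) : ℕ := Nat.mod (Nat.shiftRight 0x7de75cefae785d6554cf2c703ce34caeaa681c61448e2860ffef7c6da658df6d744d2450beeb6c2ca2489e69640c2040ffef7cefae78df6d74cf2c70a68aeab6cbee8608e29649e66586da75c7de4504d25545d63ce34c2ca2481c61440c2040beef7caeae789e6d748e2c70ffeb6cefaa68df6964cf28603ce75c2ca6581c65540c24507de34c6da2485d61444d2040ffef7cefae78d35db7c31cb3b2dbafa29aab9e69648e28607de75c6da65851559741149330d38f20928b1c61440c2040dfed7ccfac78ff6f74ef2e709ee96c8ea868be6b64ae2a605de55c4da4587d67546d26501ce14c0ca0483c63442c2240ffe34c2cae78df61440c2c70bee75c6daa689e65544d28607deb6caea6585d69648e24503cef7cefa2481c6d74cf2040fbff3debbe39df6d74cf2c70bafb2daaba299e69648e286079f71d69b6195d65544d245038f30d28b2091c61440c2040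 (Nat.mul 6 (Nat.add (Nat.mul 64 i) c))) 64

theorem fSt_eq : ∀ i : Fin 7, ∀ c < 64, st i c = fSt i.1 c := by decide +kernel

/-- `run` with the table -/
noncomputable def fRun (w : List (Fin 7)) (c : ℕ) : ℕ := List.rec c (fun i _ r => fSt i.1 r) w

theorem fRun_eq {c : ℕ} (hc : c < 64) : ∀ w : List (Fin 7), run w c = fRun w c ∧ fRun w c < 64
  | [] => ⟨rfl, hc⟩
  | i :: w => by
    refine ⟨?_, Nat.mod_lt _ (by decide)⟩
    show st i (run w c) = fSt i.1 (fRun w c)
    rw [(fRun_eq hc w).1, fSt_eq i _ (fRun_eq hc w).2]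

/-- the iteration -/
noncomputable def fIter (w : List (Fin 7)) (n c : ℕ) : ℕ := Nat.rec c (fun _ r => fRun w r) n

theorem fIter_eq (w : List (Fin 7)) {c : ℕ} (hc : c < 64) : ∀ n, (run w)^[n] c = fIter w n c ∧ fIter w n c < 64
  | 0 => ⟨rfl, hc⟩
  | n + 1 => by
    refine ⟨?_, (fRun_eq (fIter_eq w hc n).2 w).2⟩
    rw [Function.iterate_succ_apply', (fIter_eq w hc n).1]
    exact (fRun_eq (fIter_eq w hc n).2 w).1

theorem fChk {w : List (Fin 7)} {n : ℕ} {l : List ℕ}
    (h : (((List.range 64).all fun c => Nat.beq (fIter w n c) c) &&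
      l.all fun p => (List.range 64).any fun c => !Nat.beq (fIter w (n / p) c) c) = true) : chk w n l = true := by
  delta chk
  rw [Bool.and_eq_true, List.all_eq_true, List.all_eq_true] at h ⊢
  refine ⟨fun c hc => ?_, fun p hp => ?_⟩
  · rw [(fIter_eq w (List.mem_range.1 hc) n).1]
    exact h.1 c hc
  · obtain ⟨c, hc, h1⟩ := List.any_eq_true.1 (h.2 p hp)
    refine List.any_eq_true.2 ⟨c, hc, ?_⟩
    rw [(fIter_eq w (List.mem_range.1 hc) _).1, h1, Bool.true_and]
    exact Nat.blt_eq.mpr (fIter_eq w (List.mem_range.1 hc) _).2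

theorem four : HasOrd S 4 := hasOrd (w := [0, 2, 3]) (l := [2]) (by norm_num) (by decide +kernel)
  (fChk (by decide +kernel))

theorem nine : HasOrd S 9 := hasOrd (w := [0, 1, 2, 3, 4, 5, 6]) (l := [3]) (by norm_num) (by decide +kernel)
  (fChk (by decide +kernel))

theorem eight : HasOrd S 8 := hasOrd (w := [0, 1, 2, 3, 4]) (l := [2]) (by norm_num) (by decide +kernel)
  (fChk (by decide +kernel))

theorem twelve : HasOrd S 12 := hasOrd (w := [0, 2, 3, 5, 6]) (l := [2, 3]) (by norm_num) (by decide +kernel)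
  (fChk (by decide +kernel))

theorem fifteen : HasOrd S 15 := hasOrd (w := [0, 1, 2, 3, 5, 6]) (l := [3, 5]) (by norm_num) (by decide +kernel)
  (fChk (by decide +kernel))

end Cfsg.Agent.H771.KSp6

private theorem dce_beb2304da5fb : _root_.True := by
  try have : _root_.True := by simp only [_root_.Cfsg.Agent.H771.KSp6.ev.eq_1]
  exact _root_.True.intro
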