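import Cfsg.Agent.H771.KTools_m3
import Cfsg.Agent.KFacts.J2.Facts
import Cfsg.Agent.H603.SporElim
import Cfsg.Agent.Prune
set_option linter.all false
prune_inst 0x7f00000000000000000000000000000000000000000000000000000000000000000000000000000000000000000000000000000000000000000000000000000000000000000000000000000000000000003fffffffffffffffffffffffffffbeffbdffffffff
open scoped Cfsg.Agent.FastGrp

/-!
# `12 ≤ k(G)` for `G = J2` (helper771)
-/

set_option autoImplicit false

namespace Cfsg.Agent.H771.KJ2

open Subgroup Cfsg Cfsg.Agent.H92.KTools Cfsg.Agent.H771.KTools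

theorem j2 {S : Type*} [Group S] (h : Spor.IsoJ2 S) : 12 ≤ Nat.card (ConjClasses S) := by
  have hcard := NotCT.Orders.j2 h
  have hfin : Finite S := Nat.finite_of_card_ne_zero (by rw [hcard]; norm_num)
  obtain ⟨t, u, Q, v, ρ, D⟩ := KFacts.J2.Facts.exists_dat_of h
  have h8 : HasOrd S 8 := by
    -- a conjugate of `t` in `C(t)` which does not commute with `u`
    obtain ⟨x, hx, hxt, hxu⟩ : ∃ x : S, IsConj t x ∧ x * t = t * x ∧ x * u ≠ u * x := by
      by_contra hcon
      push Not at hcon
      have h1 : Nat.card {x : S // IsConj t x ∧ x * t = t * x} = Nat.card {x : S // IsConj t x ∧ x * t = t * x ∧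
          x * u = u * x} := Nat.card_congr (Equiv.subtypeEquivRight fun x =>
            ⟨fun h => ⟨h.1, h.2, hcon x h.1 h.2⟩, fun h => ⟨h.1, h.2.1⟩⟩)
      rw [D.F.card11, D.F.card3] at h1
      omega
    have h4 := D.F.pow4 x u hx (IsConj.refl u) hxt D.F.comm.symm hxu
    refine ⟨x * u, orderOf_eq_prime_pow (p := 2) (n := 2) ?_ ?_⟩
    · rw [show (2 : ℕ) ^ 2 = 4 from rfl, h4]; exact D.t_ne
    · rw [show (2 : ℕ) ^ (2 + 1) = 4 * 2 from rfl, pow_mul, h4, pow_two, D.tt]
  refine le_trans (by decide) (count_two (G := S) D.tt D.t_ne D.uu D.u_ne D.F.nconj {3, 5} {1, 3, 4, 5, 7, 8}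
    ?_ ?_ (by decide) (by decide))
  · rw [D.F.cardC, D.card_cent_u]
    intro p hp
    simp only [Finset.mem_insert, Finset.mem_singleton] at hp
    rcases hp with rfl | rfl <;> norm_num
  · have hd : ∀ p, p.Prime → p ∣ 604800 → HasOrd S p := fun p hp hd => hasOrd_prime hp (by rwa [hcard])
    intro m hm
    simp only [Finset.mem_insert, Finset.mem_singleton] at hm
    rcases hm with rfl | rfl | rfl | rfl | rfl | rfl
    · exact hasOrd_one S
    · exact hd 3 (by norm_num) (by norm_num)
    · exact h8.of_dvd (by norm_num) (by norm_num)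
    · exact hd 5 (by norm_num) (by norm_num)
    · exact hd 7 (by norm_num) (by norm_num)
    · exact h8

end Cfsg.Agent.H771.KJ2
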