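import Cfsg.Agent.H771.FactorNormal
import Cfsg.Agent.H782.QdIff
set_option linter.all false

-- part: H771/Functor
section
/-!
# Functors with values normal in local subsystems (helper771)

The induction of Kessar and Linckelmann: a class `C` of saturated fusion systems closed under subsystems and factor
systems, a positive isomorphism invariant functor `W` on finite `p`-groups with `W(S)` normal in every constrained
member of the class: then `W(S)` is normal in every saturated member of the class.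
-/

set_option autoImplicit false

namespace Cfsg.Agent.H771

open Cfsg Cfsg.FusionSystem Cfsg.Agent.H802

universe u

/-- The value of the functor `W` at a subgroup, as a subgroup of the ambient group. -/
def WS (W : ∀ (Q : Type u) [Group Q], Subgroup Q) {Ω : Type u} [Group Ω] (T : Subgroup Ω) : Subgroup Ω :=
  (W ↥T).map T.subtype

section measure

variable {Ω : Type u} [Group Ω] {S : Subgroup Ω}

/-- The maps of a system. -/
def mapSet (F : FusionSystem S) : Set (Σ P : Subgroup Ω, (P →* Ω)) := {x | x.2 ∈ F.Hom x.1}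

theorem finite_mapSet [Finite S] (F : FusionSystem S) : (mapSet F).Finite := by
  classical
  let f : mapSet F → Set S × (S → S) := fun x =>
    ({s | (s : Ω) ∈ x.1.1}, fun s => if h : (s : Ω) ∈ x.1.1 then
      ⟨x.1.2 ⟨s, h⟩, (F.le_of_mem x.2).2 _⟩ else 1)
  have hf : Function.Injective f := by
    rintro ⟨⟨P, φ⟩, hφ⟩ ⟨⟨R, ψ⟩, hψ⟩ h
    have h1 : ({s : S | (s : Ω) ∈ P} : Set S) = {s : S | (s : Ω) ∈ R} := congrArg Prod.fst h
    have h2 := congrArg Prod.snd h
    have hPS : P ≤ S := hom_le hφ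
    have hRS : R ≤ S := hom_le hψ
    have hPR : P = R := by
      ext y
      constructor
      · intro hy
        exact (Set.ext_iff.1 h1 ⟨y, hPS hy⟩).1 hy
      · intro hy
        exact (Set.ext_iff.1 h1 ⟨y, hRS hy⟩).2 hy
    subst hPR
    have hφψ : φ = ψ := by
      ext y
      have h3 := congrFun h2 ⟨y, hPS y.2⟩
      simp only [f] at h3
      rw [dif_pos y.2, dif_pos y.2] at h3
      exact congrArg Subtype.val h3
    subst hφψ
    rfl
  have hfin : Finite (mapSet F) := Finite.of_injective f hf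
  exact Set.toFinite _

/-- The number of maps of a system. -/
noncomputable def mu (F : FusionSystem S) : ℕ := (mapSet F).ncard

theorem mu_lt [Finite S] {T : Subgroup Ω} {F : FusionSystem S} {E : FusionSystem T}
    (h : E.IsSubsystemOf F) (hne : ∃ (P : Subgroup Ω) (φ : P →* Ω), φ ∈ F.Hom P ∧ φ ∉ E.Hom P) :
    mu E < mu F := by
  refine Set.ncard_lt_ncard ?_ (finite_mapSet F)
  refine ⟨fun x hx => h x.1 hx, fun h' => ?_⟩
  obtain ⟨P, φ, h1, h2⟩ := hne
  exact h2 (h' (show (⟨P, φ⟩ : Σ P : Subgroup Ω, (P →* Ω)) ∈ mapSet F from h1))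

end measure

section values

variable {p : ℕ} {W : ∀ (Q : Type u) [Group Q], Subgroup Q} {Ω : Type u} [Group Ω]

theorem WS_le (T : Subgroup Ω) : WS W T ≤ T := Subgroup.map_subtype_le _

theorem WS_ne_bot
    (hW1 : ∀ (Q : Type u) [Group Q] [Finite Q], IsPGroup p Q → Nontrivial Q → W Q ≠ ⊥)
    {T : Subgroup Ω} [Finite T] (hT : IsPGroup p T) (hne : T ≠ ⊥) : WS W T ≠ ⊥ := by
  have h1 : Nontrivial T := (Subgroup.nontrivial_iff_ne_bot T).2 hne
  have h2 := hW1 T hT h1
  intro h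
  apply h2
  unfold WS at h
  rwa [Subgroup.map_eq_bot_iff_of_injective _ T.subtype_injective] at h

theorem WS_eq_bot
    (hW1 : ∀ (Q : Type u) [Group Q] [Finite Q], IsPGroup p Q → Nontrivial Q → W Q ≠ ⊥)
    {T : Subgroup Ω} [Finite T] (hT : IsPGroup p T) (h : WS W T = ⊥) : T = ⊥ := by
  by_contra hne
  exact WS_ne_bot hW1 hT hne h

/-- The functor is carried along by injective homomorphisms. -/
theorem WS_map
    (hW2 : ∀ (Q R : Type u) [Group Q] [Group R] [Finite Q], IsPGroup p Q → ∀ φ : Q ≃* R,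
      (W Q).map φ.toMonoidHom = W R)
    {Ω' : Type u} [Group Ω'] {T : Subgroup Ω} [Finite T] (hT : IsPGroup p T) {φ : T →* Ω'}
    (hφ : Function.Injective φ) {R : Subgroup Ω'} (hR : φ.range = R) : (W ↥T).map φ = WS W R := by
  subst hR
  have h1 := hW2 T φ.range hT (MonoidHom.ofInjective hφ)
  unfold WS
  rw [← h1, Subgroup.map_map]
  rfl

theorem normalizer_le_WS
    (hW2 : ∀ (Q R : Type u) [Group Q] [Group R] [Finite Q], IsPGroup p Q → ∀ φ : Q ≃* R,
      (W Q).map φ.toMonoidHom = W R)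
    {T : Subgroup Ω} [Finite T] (hT : IsPGroup p T) :
    Subgroup.normalizer (T : Set Ω) ≤ Subgroup.normalizer (WS W T : Set Ω) := by
  rw [Subgroup.le_normalizer_iff]
  rintro g hg x ⟨y, hy, rfl⟩
  let φ : T →* Ω := (MulAut.conj g).toMonoidHom.comp T.subtype
  have hφ : Function.Injective φ := (MulAut.conj g).injective.comp T.subtype_injective
  have hR : φ.range = T := by
    ext z
    constructor
    · rintro ⟨t, rfl⟩
      exact (Subgroup.mem_normalizer_iff.1 hg t).1 t.2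
    · intro hz
      have h1 : g⁻¹ * z * g ∈ T := by
        rw [Subgroup.mem_normalizer_iff.1 hg]
        have h2 : g * (g⁻¹ * z * g) * g⁻¹ = z := by group
        rw [h2]
        exact hz
      refine ⟨⟨_, h1⟩, ?_⟩
      show g * (g⁻¹ * z * g) * g⁻¹ = z
      group
  have h3 := WS_map hW2 hT hφ hR
  have h4 : φ y ∈ (W ↥T).map φ := ⟨y, hy, rfl⟩
  rw [h3] at h4
  exact h4

end values

section main

/-- The subsystem `S C_F(Q)` of the maps which extend to `P Q`, acting on `Q` as an element of `S`. -/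
def IsInnSystem {Ω : Type u} [Group Ω] {S : Subgroup Ω} (F : FusionSystem S) (Q : Subgroup Ω)
    (D : FusionSystem S) : Prop :=
  ∀ (P : Subgroup Ω) (φ : P →* Ω), φ ∈ D.Hom P ↔ ∃ ψ ∈ F.Hom (P ⊔ Q),
    (∀ (x : Ω) (hx : x ∈ P) (hx' : x ∈ P ⊔ Q), ψ ⟨x, hx'⟩ = φ ⟨x, hx⟩) ∧
      ∃ s ∈ S, ∀ (y : Ω) (_ : y ∈ Q) (hy' : y ∈ P ⊔ Q), ψ ⟨y, hy'⟩ = s * y * s⁻¹

variable {Ω : Type u} [Group Ω] {S : Subgroup Ω}

/-- A normal subgroup is receptive. -/
theorem isReceptive_of_isNormal [Finite S] {p : ℕ} [Fact p.Prime] (hS : IsPGroup p S)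
    {F : FusionSystem S} (hF : F.IsSaturated p) {Q : Subgroup Ω} (hQ : F.IsNormal Q) :
    F.IsReceptive Q :=
  isReceptive_of_isFullyNormalized hS hF
    (isFullyNormalized_of_le_normalizer hQ.1 (le_normalizer_of_isNormal hQ))

/-- Case `C_S(Q) ⊄ Q`, second half: if `V` is normal in `S C_F(Q)` and in the normalizer of `Q C_S(Q)` then `V` is
normal in `F`. -/
theorem isNormal_of_inn [Finite S] {p : ℕ} [Fact p.Prime] (hS : IsPGroup p S)
    {F : FusionSystem S} (hF : F.IsSaturated p) {Q : Subgroup Ω} (hQ : F.IsNormal Q)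
    {D : FusionSystem S} (hD : IsInnSystem F Q D) {V : Subgroup Ω} (hV : V ≤ S)
    (h1 : ∀ (P : Subgroup Ω) (φ : P →* Ω), φ ∈ D.Hom P → NExt F V P φ)
    (h2 : ∀ (P : Subgroup Ω) (φ : P →* Ω), φ ∈ F.Hom P → P ≤ S →
      NExt F (Q ⊔ centralizerIn S Q) P φ → NExt F V P φ) : F.IsNormal V := by
  have hfV : Finite V := finite_of_le hV
  have hfQ : Finite Q := finite_of_le hQ.1
  have hsc := Cfsg.Agent.H759.IsNormal.stronglyClosed hQ
  refine isNormal_of_nExt hV (fun P φ hφ => ?_)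
  obtain ⟨ψ, hψ, hψe, hψQ⟩ := nExt_of_isNormal hQ hφ
  set X := Q ⊔ centralizerIn S Q with hX
  have hPS : P ≤ S := hom_le hφ
  have hXS : X ≤ S := sup_le hQ.1 inf_le_left
  -- `α`, the restriction of `ψ` to `Q`
  have hα := restrict_mem hψ (le_sup_right : Q ≤ P ⊔ Q)
  have hαr : (ψ.comp (Subgroup.inclusion (le_sup_right : Q ≤ P ⊔ Q))).range = Q := by
    ext z
    constructor
    · rintro ⟨y, rfl⟩
      exact hψQ y y.2 _
    · intro hz
      obtain ⟨y, hy, e⟩ := exists_preimage_of_mapsTo (F.injective_of_mem hψ)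
        (le_sup_right : Q ≤ P ⊔ Q) (fun y hy => hψQ y hy _) hz
      exact ⟨⟨y, hy⟩, e⟩
  obtain ⟨β, hβ, hβe⟩ := (isReceptive_of_isNormal hS hF hQ).2 Q _ hα hαr
  have hle : P ⊔ X ≤ extender S Q (ψ.comp (Subgroup.inclusion (le_sup_right : Q ≤ P ⊔ Q))) := by
    refine sup_le ?_ (sup_le ?_ ?_)
    · intro g hg
      rw [mem_extender_iff]
      refine ⟨hPS hg, (le_normalizer_of_isNormal hQ) (hPS hg),
        ψ ⟨g, (le_sup_left : P ≤ P ⊔ Q) hg⟩, hom_apply_mem hψ _, fun x hx => ?_⟩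
      have e1 : (Subgroup.inclusion (le_sup_right : Q ≤ P ⊔ Q)) ⟨g * x * g⁻¹, hx⟩ =
        (⟨g, (le_sup_left : P ≤ P ⊔ Q) hg⟩ : (P ⊔ Q : Subgroup Ω)) *
          (Subgroup.inclusion (le_sup_right : Q ≤ P ⊔ Q)) x *
          (⟨g, (le_sup_left : P ≤ P ⊔ Q) hg⟩ : (P ⊔ Q : Subgroup Ω))⁻¹ := rfl
      show ψ ((Subgroup.inclusion (le_sup_right : Q ≤ P ⊔ Q)) ⟨g * x * g⁻¹, hx⟩) = _
      rw [e1, map_mul, map_mul, map_inv]
      rfl
    · exact le_extender hQ.1 (hom_apply_mem hα)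
    · intro g hg
      rw [mem_extender_iff]
      refine ⟨hg.1, (le_normalizer_of_isNormal hQ) hg.1, 1, one_mem _, fun x hx => ?_⟩
      have e1 : (⟨g * x * g⁻¹, hx⟩ : Q) = x := by
        apply Subtype.ext
        have := Subgroup.mem_centralizer_iff.1 hg.2 x x.2
        show g * x * g⁻¹ = x
        rw [← this]
        group
      rw [e1]
      group
  -- restrict to `P X`
  have hβ' := restrict_mem hβ hle
  set β' := β.comp (Subgroup.inclusion hle) with hβ'def
  have hQX : Q ≤ P ⊔ X := le_sup_left.trans le_sup_right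
  have hβQ : ∀ (y : Ω) (hy : y ∈ Q), β' ⟨y, hQX hy⟩ = ψ ⟨y, (le_sup_right : Q ≤ P ⊔ Q) hy⟩ := by
    intro y hy
    exact hβe y hy _
  -- `β'` normalizes `X`
  have hβX : ∀ (y : Ω) (hy : y ∈ X), β' ⟨y, (le_sup_right : X ≤ P ⊔ X) hy⟩ ∈ X := by
    have hβ'' := restrict_mem hβ' (le_sup_right : X ≤ P ⊔ X)
    intro y hy
    have := Cfsg.Agent.H759.hom_sup_mem (A := Q) (B := centralizerIn S Q)
      (φ := β'.comp (Subgroup.inclusion (le_sup_right : X ≤ P ⊔ X))) (R := X) ?_ ?_ ⟨y, hy⟩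
    · exact this
    · intro x hx hx'
      refine (le_sup_left : Q ≤ X) ?_
      exact Cfsg.Agent.H759.StronglyClosed.apply_mem hsc hβ'' (x := ⟨x, hx'⟩) hx
    · intro x hx hx'
      refine (le_sup_right : centralizerIn S Q ≤ X) ?_
      refine ⟨hom_apply_mem hβ'' _, ?_⟩
      refine Subgroup.mem_centralizer_iff.2 (fun z hz => ?_)
      obtain ⟨q, hq, e⟩ := Cfsg.Agent.H759.StronglyClosed.exists_preimage hsc hβ''
        (le_sup_left : Q ≤ X) hz
      rw [← e, ← map_mul, ← map_mul]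
      congr 1
      apply Subtype.ext
      exact Subgroup.mem_centralizer_iff.1 hx.2 q hq
  have hNβ : NExt F X P (β'.comp (Subgroup.inclusion (le_sup_left : P ≤ P ⊔ X))) :=
    ⟨β', hβ', fun x hx hx' => rfl, fun y hy hy' => hβX y hy⟩
  have hVβ := h2 P _ (nExt_mem hNβ) hPS hNβ
  -- the map `φ β'⁻¹`
  set γ := β'.comp (Subgroup.inclusion (le_sup_left : P ≤ P ⊔ X)) with hγ
  have hγm : γ ∈ F.Hom P := nExt_mem hNβ
  -- the restriction of `β'` to `P Q`
  have hPQ : P ⊔ Q ≤ P ⊔ X := sup_le_sup_left le_sup_left P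
  have hβ₁ := restrict_mem hβ' hPQ
  set β₁ := β'.comp (Subgroup.inclusion hPQ) with hβ₁def
  have hle1 : γ.range ⊔ Q ≤ β₁.range := by
    refine sup_le ?_ ?_
    · rintro _ ⟨x, rfl⟩
      exact ⟨⟨x, (le_sup_left : P ≤ P ⊔ Q) x.2⟩, rfl⟩
    · intro z hz
      obtain ⟨q, hq, e⟩ := Cfsg.Agent.H759.StronglyClosed.exists_preimage hsc hβ₁
        (le_sup_right : Q ≤ P ⊔ Q) hz
      exact ⟨_, e⟩
  obtain ⟨ι, hι, hιe⟩ := Cfsg.Agent.H759.exists_inv F hβ₁ hle1
  have hιm : ∀ y : (γ.range ⊔ Q : Subgroup Ω), ι y ∈ P ⊔ Q := by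
    intro y
    obtain ⟨x, hx⟩ := hle1 y.2
    have h3 := hιe x (by rw [hx]; exact y.2)
    have h4 : (⟨β₁ x, by rw [hx]; exact y.2⟩ : (γ.range ⊔ Q : Subgroup Ω)) = y := Subtype.ext hx
    rw [h4] at h3
    rw [h3]
    exact x.2
  obtain ⟨ω, hω, hωe⟩ := exists_comp hι hψ hιm
  have hωQ : ∀ (y : Ω) (hy : y ∈ Q) (hy' : y ∈ γ.range ⊔ Q), ω ⟨y, hy'⟩ = y := by
    intro y hy hy'
    obtain ⟨q, hq, e⟩ := Cfsg.Agent.H759.StronglyClosed.exists_preimage hsc hβ₁
        (le_sup_right : Q ≤ P ⊔ Q) hy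
    have h3 := hιe ⟨q, (le_sup_right : Q ≤ P ⊔ Q) hq⟩ (by rw [e]; exact hy')
    have h4 : (⟨β₁ ⟨q, (le_sup_right : Q ≤ P ⊔ Q) hq⟩, by rw [e]; exact hy'⟩ :
      (γ.range ⊔ Q : Subgroup Ω)) = ⟨y, hy'⟩ := Subtype.ext e
    rw [h4] at h3
    rw [hωe]
    have h5 : (⟨ι ⟨y, hy'⟩, hιm ⟨y, hy'⟩⟩ : (P ⊔ Q : Subgroup Ω)) =
      ⟨q, (le_sup_right : Q ≤ P ⊔ Q) hq⟩ := Subtype.ext h3
    rw [h5, ← hβQ q hq]
    exact e
  have hωγ : ∀ (x : Ω) (hx : x ∈ P) (hx' : γ ⟨x, hx⟩ ∈ γ.range ⊔ Q),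
      ω ⟨γ ⟨x, hx⟩, hx'⟩ = φ ⟨x, hx⟩ := by
    intro x hx hx'
    have h3 := hιe ⟨x, (le_sup_left : P ≤ P ⊔ Q) hx⟩ hx'
    rw [hωe]
    have h5 : (⟨ι ⟨γ ⟨x, hx⟩, hx'⟩, hιm _⟩ : (P ⊔ Q : Subgroup Ω)) =
      ⟨x, (le_sup_left : P ≤ P ⊔ Q) hx⟩ := Subtype.ext h3
    rw [h5]
    exact hψe x hx _
  have hωD : NExt F V γ.range (ω.comp (Subgroup.inclusion (le_sup_left : γ.range ≤ γ.range ⊔ Q))) := by
    refine h1 _ _ ((hD _ _).2 ⟨ω, hω, fun x hx hx' => rfl, 1, one_mem _, fun y hy hy' => ?_⟩)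
    rw [hωQ y hy hy']
    group
  refine nExt_comp hVβ hωD (fun x => ⟨⟨x, rfl⟩, ?_⟩)
  exact (hωγ x x.2 _).symm

/-- If `C_S(Q) ≤ Q` for the normal subgroup `Q`, then `Q` is centric. -/
theorem isCentric_of_isNormal [Finite S] {F : FusionSystem S} {Q : Subgroup Ω} (hQ : F.IsNormal Q)
    (hc : centralizerIn S Q ≤ Q) : F.IsCentric Q := by
  have hfQ : Finite Q := finite_of_le hQ.1
  refine ⟨hQ.1, ?_⟩
  rintro R ⟨φ, hφ, rfl⟩
  have hr : φ.range = Q := by
    ext z
    constructor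
    · rintro ⟨y, rfl⟩
      exact Cfsg.Agent.H759.StronglyClosed.apply_mem (Cfsg.Agent.H759.IsNormal.stronglyClosed hQ) hφ y.2
    · intro hz
      obtain ⟨y, hy, e⟩ := Cfsg.Agent.H759.StronglyClosed.exists_preimage
        (Cfsg.Agent.H759.IsNormal.stronglyClosed hQ) hφ le_rfl hz
      exact ⟨⟨y, hy⟩, e⟩
  rw [hr]
  exact hc

/-- If `S C_F(Q)` is all of `F` then `Aut_F(Q)` is induced by `S`. -/
theorem autGroup_le_of_inn {F : FusionSystem S} {Q : Subgroup Ω} (hQS : Q ≤ S) {D : FusionSystem S}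
    (hD : IsInnSystem F Q D) (h : ∀ (P : Subgroup Ω) (φ : P →* Ω), φ ∈ F.Hom P → φ ∈ D.Hom P) :
    F.autGroup Q ≤ autInducedBy S Q := by
  intro α hα
  have h1 := h _ _ ((mem_autGroup_iff F hQS α).1 hα)
  obtain ⟨ψ, -, h2, s, hs, h3⟩ := (hD _ _).1 h1
  refine Subgroup.subset_closure ⟨s, hs, fun x => ?_⟩
  rw [← h3 x x.2 ((le_sup_left : Q ≤ Q ⊔ Q) x.2), h2 x x.2]
  rfl

end main

/-- **The induction of Kessar and Linckelmann.** -/
theorem functor_isNormal_aux {p : ℕ} [Fact p.Prime] {W : ∀ (Q : Type u) [Group Q], Subgroup Q}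
    (hW1 : ∀ (Q : Type u) [Group Q] [Finite Q], IsPGroup p Q → Nontrivial Q → W Q ≠ ⊥)
    (hW2 : ∀ (Q R : Type u) [Group Q] [Group R] [Finite Q], IsPGroup p Q → ∀ φ : Q ≃* R,
      (W Q).map φ.toMonoidHom = W R)
    (C : ∀ {Ω : Type u} [Group Ω] {S : Subgroup Ω}, FusionSystem S → Prop)
    (hsub : ∀ {Ω : Type u} [Group Ω] {S T : Subgroup Ω} {F : FusionSystem S} {E : FusionSystem T},
      E.IsSubsystemOf F → C F → C E)
    (hquot : ∀ {Ω : Type u} [Group Ω] {S : Subgroup Ω} [Finite S] {F : FusionSystem S}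
      {Q : Subgroup Ω} {Ω' : Type u} [Group Ω'] {S' : Subgroup Ω'} {θ : S →* Ω'}
      {E : FusionSystem S'}, IsPGroup p S → F.IsSaturated p → F.IsNormal Q →
      F.IsFactorSystem Q θ E → C F → C E)
    (hcon : ∀ {Ω : Type u} [Group Ω] {S : Subgroup Ω} [Finite S] {F : FusionSystem S}
      {Q : Subgroup Ω}, IsPGroup p S → F.IsSaturated p → F.IsNormal Q → F.IsCentric Q → C F →
      F.IsNormal (WS W S))
    (hNS : ∀ {Ω : Type u} [Group Ω] {S : Subgroup Ω} [Finite S] {F : FusionSystem S}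
      {Y : Subgroup Ω}, IsPGroup p S → F.IsSaturated p → F.IsFullyNormalized Y →
      ∃ E : FusionSystem (normalizerIn S Y), F.IsNormalizerSystem Y E ∧ E.IsSaturated p)
    (hDS : ∀ {Ω : Type u} [Group Ω] {S : Subgroup Ω} [Finite S] {F : FusionSystem S}
      {Q : Subgroup Ω}, IsPGroup p S → F.IsSaturated p → F.IsNormal Q →
      ∃ D : FusionSystem S, IsInnSystem F Q D ∧ D.IsSaturated p) :
    ∀ n m : ℕ, ∀ {Ω : Type u} [Group Ω] {S : Subgroup Ω} [Finite S] (F : FusionSystem S),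
      IsPGroup p S → F.IsSaturated p → C F → Nat.card S = n → mu F = m → F.IsNormal (WS W S) := by
  intro n
  induction n using Nat.strong_induction_on with
  | _ n ihn =>
  intro m
  induction m using Nat.strong_induction_on with
  | _ m ihm =>
  intro Ω _ S _ F hS hF hC hn hm
  -- the induction hypothesis for proper subsystems
  have IH : ∀ {T : Subgroup Ω} (E : FusionSystem T), E.IsSubsystemOf F → E.IsSaturated p →
      (∃ (P : Subgroup Ω) (φ : P →* Ω), φ ∈ F.Hom P ∧ φ ∉ E.Hom P) → E.IsNormal (WS W T) := by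
    intro T E hE hEs hne
    have hTS : T ≤ S := (F.le_of_mem (hE T (subtype_mem E le_rfl))).1
    have hfT : Finite T := finite_of_le hTS
    rcases (Subgroup.card_le_of_le hTS).lt_or_eq with h | h
    · exact ihn _ (hn ▸ h) (mu E) E (hS.to_le hTS) hEs (hsub hE hC) rfl rfl
    · exact ihm (mu E) (hm ▸ mu_lt hE hne) E (hS.to_le hTS) hEs (hsub hE hC) (h.trans hn) rfl
  have hWS : WS W S ≤ S := WS_le S
  -- normalizer systems of fully normalized, not normal, subgroups
  have IHN : ∀ Y : Subgroup Ω, F.IsFullyNormalized Y → ¬ F.IsNormal Y →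
      ∀ (P : Subgroup Ω) (φ : P →* Ω), φ ∈ F.normalizerHom Y P → NExt F (WS W (normalizerIn S Y)) P φ := by
    intro Y hY hYn P φ hφ
    obtain ⟨E, hE, hEs⟩ := hNS hS hF hY
    have hEF : E.IsSubsystemOf F := fun P φ hφ => by
      rw [hE] at hφ
      exact hφ.1
    have hYf : Finite Y := finite_of_le hY.1
    have hne : ∃ (P : Subgroup Ω) (φ : P →* Ω), φ ∈ F.Hom P ∧ φ ∉ E.Hom P := by
      by_contra hcon'
      push Not at hcon'
      refine hYn (isNormal_of_nExt hY.1 (fun P φ hφ => ?_))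
      have h1 := hcon' P φ hφ
      rw [hE] at h1
      exact (mem_normalizerHom_iff.1 h1).2.2
    have h2 := IH E hEF hEs hne
    have h3 : φ ∈ E.Hom P := by
      rw [hE]
      exact hφ
    obtain ⟨ψ, hψ, h4, h5⟩ := nExt_of_isNormal h2 h3
    exact ⟨ψ, hEF _ hψ, h4, h5⟩
  by_cases hcore : F.core = ⊥
  · -- no nontrivial normal subgroup
    refine isNormal_of_local hS hF hWS (fun Y hY hYn => ?_)
    have hTf : Finite (normalizerIn S Y) := finite_of_le inf_le_left
    have hTp : IsPGroup p (normalizerIn S Y) := hS.to_le inf_le_left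
    refine ⟨WS W (normalizerIn S Y), WS_ne_bot hW1 hTp ?_, WS_le _, ?_, ?_, ?_⟩
    · intro h
      exact hY (le_bot_iff.1 (h ▸ le_normalizerIn hYn.1))
    · exact inf_le_right.trans (normalizer_le_WS hW2 hTp)
    · intro h
      rw [h]
    · refine IHN Y hYn (fun h => hY ?_)
      exact le_bot_iff.1 (hcore ▸ Cfsg.Agent.H759.IsNormal.le_core h)
  · have hQn : F.IsNormal F.core := Cfsg.Agent.H759.isNormal_core
    set Q := F.core with hQdef
    by_cases hc : centralizerIn S Q ≤ Q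
    · exact hcon hS hF hQn (isCentric_of_isNormal hQn hc) hC
    · -- `Q C_S(Q)` is not normal
      set X := Q ⊔ centralizerIn S Q with hX
      have hXS : X ≤ S := sup_le hQn.1 inf_le_left
      have hXn : ¬ F.IsNormal X := fun h =>
        hc (le_sup_right.trans (Cfsg.Agent.H759.IsNormal.le_core h))
      have hSQ : S ≤ Subgroup.normalizer (Q : Set Ω) := le_normalizer_of_isNormal hQn
      have hSX : S ≤ Subgroup.normalizer (X : Set Ω) := by
        rw [Subgroup.le_normalizer_iff]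
        intro g hg x hx
        have h1 : X ≤ X.comap (MulAut.conj g).toMonoidHom := by
          refine sup_le ?_ ?_
          · intro q hq
            exact (le_sup_left : Q ≤ X) ((Subgroup.mem_normalizer_iff.1 (hSQ hg) q).1 hq)
          · intro c hc'
            refine (le_sup_right : centralizerIn S Q ≤ X) ⟨?_, ?_⟩
            · exact S.mul_mem (S.mul_mem hg hc'.1) (S.inv_mem hg)
            · refine Subgroup.mem_centralizer_iff.2 (fun q hq => ?_)
              have h2 : g⁻¹ * q * g ∈ Q := by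
                rw [Subgroup.mem_normalizer_iff.1 (hSQ hg)]
                have h3 : g * (g⁻¹ * q * g) * g⁻¹ = q := by group
                rw [h3]
                exact hq
              have h4 := Subgroup.mem_centralizer_iff.1 hc'.2 _ h2
              show q * (g * c * g⁻¹) = (g * c * g⁻¹) * q
              have h5 : q * (g * c * g⁻¹) = g * ((g⁻¹ * q * g) * c) * g⁻¹ := by group
              rw [h5, h4]
              group
        exact h1 hx
      have hT : normalizerIn S X = S := inf_eq_left.2 hSX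
      obtain ⟨D, hD, hDs⟩ := hDS hS hF hQn
      have hDF : D.IsSubsystemOf F := by
        intro P φ hφ
        obtain ⟨ψ, hψ, h1, -⟩ := (hD P φ).1 hφ
        exact mem_of_agree hψ le_sup_left (fun x hx => (h1 x hx _).symm)
      by_cases hDe : ∃ (P : Subgroup Ω) (φ : P →* Ω), φ ∈ F.Hom P ∧ φ ∉ D.Hom P
      · have h1 := IH D hDF hDs hDe
        refine isNormal_of_inn hS hF hQn hD hWS ?_ ?_
        · intro P φ hφ
          obtain ⟨ψ, hψ, h4, h5⟩ := nExt_of_isNormal h1 hφ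
          exact ⟨ψ, hDF _ hψ, h4, h5⟩
        · intro P φ hφ hPS hX'
          have h2 := IHN X (isFullyNormalized_of_le_normalizer hXS hSX) hXn P φ
          rw [hT] at h2
          have hfX : Finite X := finite_of_le hXS
          refine h2 (mem_normalizerHom_iff.2 ⟨?_, ?_, hX'⟩)
          · rw [hT]; exact hPS
          · rw [hT]; exact fun x => hom_apply_mem hφ x
      · exfalso
        push Not at hDe
        have hA := autGroup_le_of_inn hQn.1 hD hDe
        have hSn : (Q.subgroupOf S).Normal :=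
          Subgroup.normal_subgroupOf_of_le_normalizer hSQ
        let θ : S →* (S ⧸ Q.subgroupOf S) := QuotientGroup.mk' (Q.subgroupOf S)
        have hker : ∀ s : S, θ s = 1 ↔ (s : Ω) ∈ Q := by
          intro s
          show (s : S ⧸ Q.subgroupOf S) = 1 ↔ _
          rw [QuotientGroup.eq_one_iff]
          rfl
        have hr : θ.range = ⊤ := MonoidHom.range_eq_top.2 (QuotientGroup.mk'_surjective _)
        have hsc := Cfsg.Agent.H759.IsNormal.stronglyClosed hQn
        obtain ⟨E, hE⟩ := Cfsg.Agent.H759.exists_factorSystem hsc hker hr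
        have hEs := Cfsg.Agent.H759.isSaturated_factor hS hF hsc hE
        have hE1 : C E := hquot hS hF hQn hE hC
        have hp' : IsPGroup p (⊤ : Subgroup (S ⧸ Q.subgroupOf S)) := by
          intro g
          obtain ⟨s, hs⟩ := QuotientGroup.mk'_surjective (Q.subgroupOf S) g
          obtain ⟨k, hk⟩ := hS s
          refine ⟨k, Subtype.ext ?_⟩
          show (g : S ⧸ Q.subgroupOf S) ^ p ^ k = 1
          rw [← hs, ← map_pow, hk, map_one]
        have hcard : Nat.card (⊤ : Subgroup (S ⧸ Q.subgroupOf S)) < n := by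
          rw [← hn, Subgroup.card_top]
          have h1 := Subgroup.card_eq_card_quotient_mul_card_subgroup (Q.subgroupOf S)
          have h2 : 1 < Nat.card (Q.subgroupOf S) := by
            rw [Finite.one_lt_card_iff_nontrivial, Subgroup.nontrivial_iff_ne_bot]
            intro h
            apply hcore
            rw [Subgroup.subgroupOf_eq_bot] at h
            exact (h.mono_right hQn.1).eq_bot_of_self
          have h3 : 0 < Nat.card (S ⧸ Q.subgroupOf S) := Nat.card_pos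
          rw [h1]
          nlinarith
        have h2 := ihn _ hcard (mu E) E hp' hEs hE1 rfl rfl
        have h3 := isNormal_preimage hS hF hQn hA hE h2
        have h4 := Cfsg.Agent.H759.IsNormal.le_core h3
        have h5 : WS W (⊤ : Subgroup (S ⧸ Q.subgroupOf S)) = ⊥ := by
          rw [eq_bot_iff]
          intro y hy
          obtain ⟨s, hs⟩ := QuotientGroup.mk'_surjective (Q.subgroupOf S) y
          have h6 : (s : Ω) ∈ Cfsg.FusionSystem.preimageAlong θ
              (WS W (⊤ : Subgroup (S ⧸ Q.subgroupOf S))) :=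
            Cfsg.Agent.H759.mem_preimageAlong.2 ⟨s.2, by
              show θ s ∈ _
              rw [show θ s = y from hs]
              exact hy⟩
          have h7 := (hker s).2 (h4 h6)
          rw [Subgroup.mem_bot, ← hs]
          exact h7
        have h6 := WS_eq_bot hW1 hp' h5
        apply hc
        intro x hx
        have h7 : θ ⟨x, hx.1⟩ ∈ (⊤ : Subgroup (S ⧸ Q.subgroupOf S)) := Subgroup.mem_top _
        rw [h6, Subgroup.mem_bot] at h7
        exact (hker _).1 h7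

end Cfsg.Agent.H771
end

-- part: H771/FunctorQd
section
/-!
# Glauberman functors for fusion systems (helper771)

`functor_isNormal` : for a positive isomorphism invariant functor `W` with `W(P)` normal in every finite group `L` of
characteristic `p` not involving `Qd(p)` (`P` a Sylow `p`-subgroup), `W(S)` is normal in every saturated
`Qd(p)`-free fusion system over `S`, for every prime `p`.
-/

set_option autoImplicit false

namespace Cfsg.Agent.H771

open Cfsg Cfsg.FusionSystem Cfsg.Agent.H802 Cfsg.Agent.PLocal.QdSection Cfsg.Agent.H782.QdFus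

universe u v w

/-- Natural sections lift from factor systems. -/
theorem hasNat_of_factor {Ω : Type u} [Group Ω] {S : Subgroup Ω} [Finite S] {p : ℕ} [Fact p.Prime]
    {F : FusionSystem S} {Q : Subgroup Ω} {Ω' : Type v} [Group Ω'] {S' : Subgroup Ω'}
    {θ : S →* Ω'} {E : FusionSystem S'} (hE : F.IsFactorSystem Q θ E) (h : HasNat p E) :
    HasNat p F := by
  classical
  obtain ⟨R', hR', K', hK', e', ρ', he', hρ', hc'⟩ := h
  set R := Cfsg.FusionSystem.preimageAlong θ R' with hR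
  have hRS : R ≤ S := Cfsg.Agent.H759.preimageAlong_le
  have hRf : Finite R := finite_of_le hRS
  have hRm : ∀ x : R, θ ⟨x, hRS x.2⟩ ∈ R' := fun x => (Cfsg.Agent.H759.mem_preimageAlong.1 x.2).2
  let θR : R →* R' := (θ.comp (Subgroup.inclusion hRS)).codRestrict R' hRm
  have hθR : ∀ x : R, ((θR x : R') : Ω') = θ ⟨x, hRS x.2⟩ := fun x => rfl
  have hθs : Function.Surjective θR := by
    intro y
    obtain ⟨x, hx, hxR, hxy⟩ := Cfsg.Agent.H759.exists_preimage_of_mem hE hR' y.2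
    exact ⟨⟨x, hxR⟩, Subtype.ext hxy⟩
  let K : Subgroup (MulAut R) :=
    { carrier := {α | α ∈ F.autGroup R ∧ ∃ β ∈ K', ∀ x : R, θR (α x) = β (θR x)}
      one_mem' := ⟨one_mem _, 1, one_mem _, fun x => rfl⟩
      mul_mem' := by
        rintro α α' ⟨h1, β, hβ, h2⟩ ⟨h1', β', hβ', h2'⟩
        refine ⟨mul_mem h1 h1', β * β', mul_mem hβ hβ', fun x => ?_⟩
        rw [MulAut.mul_apply, MulAut.mul_apply, h2, h2']
      inv_mem' := by
        rintro α ⟨h1, β, hβ, h2⟩
        refine ⟨(F.autGroup R).inv_mem h1, β⁻¹, K'.inv_mem hβ, fun x => ?_⟩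
        have h3 := h2 (α⁻¹ x)
        rw [MulAut.apply_inv_self] at h3
        rw [h3, MulAut.inv_apply_self] }
  have hK : K ≤ F.autGroup R := fun α hα => hα.1
  choose b hbK hb using fun α : K => α.2.2
  have hbu : ∀ (α : K) (β : MulAut R'), (∀ x : R, θR ((α : MulAut R) x) = β (θR x)) → b α = β := by
    intro α β h
    ext y
    obtain ⟨x, rfl⟩ := hθs y
    rw [← hb α x, h x]
  let ρ₀ : K →* K' := MonoidHom.mk' (fun α => ⟨b α, hbK α⟩) (by
    intro α α'
    apply Subtype.ext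
    show b (α * α') = b α * b α'
    refine hbu _ _ (fun x => ?_)
    show θR ((α : MulAut R) ((α' : MulAut R) x)) = _
    rw [hb α, hb α']
    rfl)
  have hρ₀ : ∀ (α : K) (x : R), θR ((α : MulAut R) x) = ((ρ₀ α : K') : MulAut R') (θR x) := hb
  have hρ₀s : Function.Surjective ρ₀ := by
    rintro ⟨β, hβ⟩
    have h1 := (mem_autGroup_iff E hR' β).1 (hK' hβ)
    obtain ⟨φ, hφ, h2⟩ := Cfsg.Agent.H759.exists_map_of_factor hE h1
    have hφR : ∀ x : R, φ x ∈ R := by
      intro x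
      have h3 := h2 x x.2 (hRS x.2) (hRm x) (hom_apply_mem hφ x)
      refine Cfsg.Agent.H759.mem_preimageAlong.2 ⟨hom_apply_mem hφ x, ?_⟩
      have h4 : θ ⟨φ x, hom_apply_mem hφ x⟩ = ((β ⟨θ ⟨x, hRS x.2⟩, hRm x⟩ : R') : Ω') := h3.symm
      rw [h4]
      exact (β _).2
    let f : R →* R := φ.codRestrict R hφR
    have hf : Function.Bijective f := by
      rw [← Finite.injective_iff_bijective]
      intro x y hxy
      exact F.injective_of_mem hφ (congrArg Subtype.val hxy)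
    let α : MulAut R := MulEquiv.ofBijective f hf
    have hα : ∀ x : R, ((α x : R) : Ω) = φ x := fun x => rfl
    have hαm : α ∈ F.autGroup R := by
      rw [mem_autGroup_iff F hRS]
      exact mem_of_apply_eq hφ (fun x => rfl)
    have hαβ : ∀ x : R, θR (α x) = β (θR x) := by
      intro x
      apply Subtype.ext
      have h3 := h2 x x.2 (hRS x.2) (hRm x) (hom_apply_mem hφ x)
      exact h3.symm
    refine ⟨⟨α, hαm, β, hβ, hαβ⟩, ?_⟩
    apply Subtype.ext
    exact hbu _ _ hαβ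
  refine ⟨R, hRS, K, hK, e'.comp θR, ρ'.comp ρ₀, he'.comp hθs, hρ'.comp hρ₀s, fun α x => ?_⟩
  show e' (θR ((α : MulAut R) x)) = act (ρ' (ρ₀ α)) (e' (θR x))
  rw [← hc', ← hρ₀]

/-- If `ι : S → L` realizes `F` and `ι(V)` is normal in `L`, then `V` is normal in `F`. -/
theorem isNormal_of_normal_map {Ω : Type u} [Group Ω] {S : Subgroup Ω} [Finite S]
    {F : FusionSystem S} {L : Type v} [Group L] {ι : S →* L} (hι : F.IsRealizedBy ι)
    {V : Subgroup S} (hV : (V.map ι).Normal) : F.IsNormal (V.map S.subtype) := by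
  have hVS : V.map S.subtype ≤ S := Subgroup.map_subtype_le _
  have hfV : Finite (V.map S.subtype) := finite_of_le hVS
  refine isNormal_of_nExt hVS (fun P φ hφ => ?_)
  set Y := V.map S.subtype with hY
  have hPS : P ≤ S := hom_le hφ
  obtain ⟨g, hg⟩ := (hι.2 P hPS φ (hom_apply_mem hφ)).1 hφ
  -- the elements of `S` carried into `ι(S)` by `g`
  have hle : P ⊔ Y ≤ S := sup_le hPS hVS
  have hPY : ∀ y : (P ⊔ Y : Subgroup Ω), g * ι ⟨y, hle y.2⟩ * g⁻¹ ∈ ι.range := by
    let A : Subgroup S := ι.range.comap ((MulAut.conj g).toMonoidHom.comp ι)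
    have h1 : P ⊔ Y ≤ A.map S.subtype := by
      refine sup_le ?_ ?_
      · intro x hx
        refine ⟨⟨x, hPS hx⟩, ?_, rfl⟩
        exact ⟨_, hg ⟨x, hx⟩⟩
      · rintro _ ⟨v, hv, rfl⟩
        refine ⟨v, ?_, rfl⟩
        obtain ⟨v', hv', e⟩ := hV.conj_mem (ι v) ⟨v, hv, rfl⟩ g
        exact ⟨v', e⟩
    intro y
    obtain ⟨z, hz, e⟩ := h1 y.2
    have e' : z = ⟨y, hle y.2⟩ := Subtype.ext e
    rw [← e']
    exact hz
  choose ψ₀ hψ₀ using hPY
  let ψ : (P ⊔ Y : Subgroup Ω) →* Ω := MonoidHom.mk' (fun y => ((ψ₀ y : S) : Ω)) (by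
    intro y z
    have h1 : ψ₀ (y * z) = ψ₀ y * ψ₀ z := by
      apply hι.1
      rw [map_mul, hψ₀, hψ₀, hψ₀]
      have h2 : (⟨((y * z : (P ⊔ Y : Subgroup Ω)) : Ω), hle (y * z).2⟩ : S) =
        ⟨y, hle y.2⟩ * ⟨z, hle z.2⟩ := rfl
      rw [h2, map_mul]
      group
    exact congrArg Subtype.val h1)
  have hψS : ∀ y, ψ y ∈ S := fun y => (ψ₀ y).2
  have hψι : ∀ y, ι ⟨ψ y, hψS y⟩ = g * ι ⟨y, hle y.2⟩ * g⁻¹ := fun y => hψ₀ y
  refine ⟨ψ, (hι.2 _ hle ψ hψS).2 ⟨g, hψι⟩, fun x hx hx' => ?_, fun y hy hy' => ?_⟩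
  · have h1 : ι ⟨ψ ⟨x, hx'⟩, hψS _⟩ = ι ⟨φ ⟨x, hx⟩, hom_apply_mem hφ _⟩ := by
      rw [hψι, hg ⟨x, hx⟩]
    exact congrArg Subtype.val (hι.1 h1)
  · obtain ⟨v, hv, rfl⟩ := hy
    obtain ⟨v', hv', e⟩ := hV.conj_mem (ι v) ⟨v, hv, rfl⟩ g
    have h1 : v' = ⟨ψ ⟨S.subtype v, hy'⟩, hψS _⟩ := by
      apply hι.1
      rw [hψι, e]
      rfl
    exact ⟨v', hv', congrArg Subtype.val h1⟩

/-- The system `S C_F(Q)` exists and is saturated. -/
theorem exists_innSystem {Ω : Type u} [Group Ω] {S : Subgroup Ω} [Finite S] {p : ℕ} [Fact p.Prime]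
    (hS : IsPGroup p S) {F : FusionSystem S} (hF : F.IsSaturated p) {Q : Subgroup Ω}
    (hQ : F.IsNormal Q) : ∃ D : FusionSystem S, IsInnSystem F Q D ∧ D.IsSaturated p := by
  have hN := le_normalizer_of_isNormal hQ
  have hT : kNorm S Q (autInducedBy S Q) = S := by
    refine le_antisymm (kNorm_le _ _ _) (fun g hg => ?_)
    obtain ⟨α, hα⟩ := exists_conjAut (hN hg)
    exact ⟨hg, α, Subgroup.subset_closure ⟨g, hg, hα⟩, hα⟩
  have hgood : GoodK p F Q (autInducedBy S Q) := goodK_of_le hS hF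
    (isFullyCentralized_of_isFullyNormalized hS hF (isFullyNormalized_of_le_normalizer hQ.1 hN)) le_rfl
  refine ⟨castSystem hT (kNormSystem F hQ.1 (autInducedBy S Q)), ?_,
    isSaturated_cast _ (kNormSystem_isSaturated hS hF hQ.1 hgood)⟩
  intro P φ
  rw [castSystem_hom]
  show φ ∈ kNormHom F Q (autInducedBy S Q) P ↔ _
  constructor
  · rintro ⟨hP, hφ, ψ, hψ, h1, α, hα, h2⟩
    obtain ⟨s, hs, h3⟩ := (mem_autInducedBy_iff _ _ _).1 hα
    refine ⟨ψ, hψ, fun x hx hx' => h1 ⟨x, hx⟩, s, hs, fun y hy hy' => ?_⟩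
    exact (h2 ⟨y, hy⟩).trans (h3 ⟨y, hy⟩)
  · rintro ⟨ψ, hψ, h1, s, hs, h2⟩
    have hφF : φ ∈ F.Hom P := mem_of_agree hψ le_sup_left (fun x hx => (h1 x hx _).symm)
    rw [kNormHom, Set.mem_ofPred_eq, hT]
    obtain ⟨α, hα⟩ := exists_conjAut (hN hs)
    refine ⟨hom_le hφF, hom_apply_mem hφF, ψ, hψ, fun x => h1 x x.2 _, α,
      Subgroup.subset_closure ⟨s, hs, hα⟩, fun x => ?_⟩
    rw [hα]
    exact h2 x x.2 _

/-- **Glauberman functors for fusion systems** (Kessar-Linckelmann, Onofrei-Stancu), for every prime `p`. -/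
theorem functor_isNormal {p : ℕ} [Fact p.Prime] (W : ∀ (Q : Type u) [Group Q], Subgroup Q)
    (hW1 : ∀ (Q : Type u) [Group Q] [Finite Q], IsPGroup p Q → Nontrivial Q → W Q ≠ ⊥)
    (hW2 : ∀ (Q R : Type u) [Group Q] [Group R] [Finite Q], IsPGroup p Q → ∀ φ : Q ≃* R,
      (W Q).map φ.toMonoidHom = W R)
    (hW3 : ∀ (L : Type u) [Group L] [Finite L] (P : Sylow p L),
      Subgroup.centralizer ((Cfsg.pCore p L : Subgroup L) : Set L) ≤ Cfsg.pCore p L →
      ¬ Cfsg.Involves ↥(Cfsg.qd p) L →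
      (((W ↥(P : Subgroup L)).map (P : Subgroup L).subtype : Subgroup L)).Normal)
    {Ω : Type u} [Group Ω] {S : Subgroup Ω} [Finite S] (hS : IsPGroup p S) (F : FusionSystem S)
    (hF : F.IsSaturated p) (hfree : ¬ HasNat p F) : F.IsNormal ((W ↥S).map S.subtype) := by
  refine functor_isNormal_aux hW1 hW2 (fun {Ω} _ {S} F => ¬ HasNat p F) ?_ ?_ ?_ ?_ ?_ _ _ F hS hF
    hfree rfl rfl
  · intro Ω _ S T F E hEF h h'
    exact h (h'.mono hEF)
  · intro Ω _ S _ F Q Ω' _ S' θ E _ _ _ hE h h'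
    exact h (hasNat_of_factor hE h')
  · intro Ω _ S _ F Q hS hF hQn hQc h
    obtain ⟨L, hL, ι, ⟨hfin, hι, ⟨T, hT⟩, hcen⟩, -, -⟩ := exists_model hS hF hQn hQc
    have h1 : ¬ Cfsg.Involves ↥(Cfsg.qd p) L := by
      intro h2
      exact h (hasNat_of_involves hι ⟨T, hT⟩ (Lib.Involves.involves_iff.2 h2))
    have h2 := hW3 L T hcen h1
    have h3 : (W ↥S).map ι = WS W (T : Subgroup L) := WS_map hW2 hS hι.1 hT.symm
    refine isNormal_of_normal_map hι ?_
    rw [h3]
    exact h2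
  · intro Ω _ S _ F Y hS hF hY
    obtain ⟨E, hE⟩ := exists_normalizerSystem F hY.1
    exact ⟨E, hE, normalizerSystem_isSaturated hS hF hY hE⟩
  · intro Ω _ S _ F Q hS hF hQ
    exact exists_innSystem hS hF hQ

/-- If `V` is normal in `F`, the normalizer system of `V` is `F`. -/
theorem hom_eq_of_isNormal {Ω : Type u} [Group Ω] {S : Subgroup Ω} [Finite S]
    {F : FusionSystem S} {V : Subgroup Ω} (hV : F.IsNormal V) {N : FusionSystem (normalizerIn S V)}
    (hN : F.IsNormalizerSystem V N) (P : Subgroup Ω) : N.Hom P = F.Hom P := by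
  have hfV : Finite V := finite_of_le hV.1
  have hT : normalizerIn S V = S := inf_eq_left.2 (le_normalizer_of_isNormal hV)
  rw [hN P]
  ext φ
  rw [mem_normalizerHom_iff]
  constructor
  · rintro ⟨-, -, h⟩
    exact nExt_mem h
  · intro h
    rw [hT]
    exact ⟨hom_le h, hom_apply_mem h, nExt_of_isNormal hV h⟩

end Cfsg.Agent.H771
end
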