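import Cfsg.Agent.H771.KTools_m3
import Cfsg.Agent.KFacts.He.TwoA_m3
import Cfsg.Agent.KFacts.He.Classes
import Cfsg.Agent.ONType.PslCard
import Cfsg.Agent.Prune
set_option linter.all false
prune_inst 0x7f00000000000000000000000000000000000000000000000000000000000000000000000000000000000000000000000000000000000000000000000000000000000000000000000000000000000000003fffffffffffffffffffffffffffbeffbdffffffff
open scoped Cfsg.Agent.FastGrp

/-!
# `12 ≤ k(G)` for `G = He` (helper771)
-/

set_option autoImplicit false

namespace Cfsg.Agent.H771.KHe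

open Subgroup Cfsg Cfsg.Agent.H92.KTools Cfsg.Agent.H771.KTools
open Cfsg.Spor Cfsg.Spor.He Cfsg.Agent.FixBN.HeStab Cfsg.Agent.KFacts.He.Lv
open Cfsg.Agent.KFacts.He.TwoACent Cfsg.Agent.KFacts.He.TwoAPlane Cfsg.Agent.KFacts.He.TwoA

theorem he_model : 12 ≤ Nat.card (ConjClasses Spor.He) := by
  have hcard := KFacts.He.Classes.card_he
  have hfin : Finite Spor.He := Nat.finite_of_card_ne_zero (by rw [hcard]; norm_num)
  have hzz : KFacts.He.Bound.z * KFacts.He.Bound.z = 1 := by
    rw [← KFacts.He.Hyp.hyp.map_zz, ← map_mul]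
    have : SporadicRecognition.HeldModel.zC * SporadicRecognition.HeldModel.zC = 1 :=
      Subtype.ext (SporadicRecognition.HeldModel.cd_inj (by
        show SporadicRecognition.HeldModel.cd (SporadicRecognition.HeldModel.zz * SporadicRecognition.HeldModel.zz) =
          SporadicRecognition.HeldModel.cd 1
        rw [SporadicRecognition.HeldModel.cd_mul, SporadicRecognition.HeldModel.cd_one,
          SporadicRecognition.HeldModel.cd_zz]
        decide +kernel))
    rw [this, map_one]
  have hL : ∀ p, p ∣ 20160 → p ∣ Nat.card (centralizer ({gn .a} : Set Spor.He)) := by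
    intro p hp
    rw [← ONType.PslCard.card_PSL3] at hp
    exact (hp.trans (Subgroup.card_dvd_of_surjective Th Th_surjective)).trans (Subgroup.card_dvd_of_le two_a.1)
  have ha1 : gn .a ≠ 1 := a_ne_one
  have hn : ¬ IsConj KFacts.He.Bound.z (gn .a) := by
    intro hc
    have h1 := card_conj hc
    have h2 := hL 5 (by norm_num)
    rw [← h1, KFacts.He.Classes.card_centralizer] at h2
    exact absurd h2 (by norm_num)
  refine le_trans (by decide) (count_two (G := Spor.He) hzz KFacts.He.Hyp.z_ne_one (gn_mul_self .a) ha1 hn {3, 7}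
    {1, 3, 5, 7, 10, 17} ?_ ?_ (by decide) (by decide))
  · intro p hp
    rw [KFacts.He.Classes.card_centralizer]
    simp only [Finset.mem_insert, Finset.mem_singleton] at hp
    rcases hp with rfl | rfl
    · exact ⟨by norm_num, by norm_num, by norm_num, hL _ (by norm_num)⟩
    · exact ⟨by norm_num, by norm_num, by norm_num, hL _ (by norm_num)⟩
  · have hd : ∀ p, p.Prime → p ∣ 4030387200 → HasOrd Spor.He p := fun p hp hd => hasOrd_prime hp (by rwa [hcard])
    intro m hm
    simp only [Finset.mem_insert, Finset.mem_singleton] at hm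
    rcases hm with rfl | rfl | rfl | rfl | rfl | rfl
    · exact hasOrd_one _
    · exact hd 3 (by norm_num) (by norm_num)
    · exact hd 5 (by norm_num) (by norm_num)
    · exact hd 7 (by norm_num) (by norm_num)
    · exact two_mul_prime (gn_mul_self .a) ha1 (p := 5) (by norm_num) (by norm_num) (hL 5 (by norm_num))
    · exact hd 17 (by norm_num) (by norm_num)

theorem he {S : Type*} [Group S] (h : Spor.IsoHe S) : 12 ≤ Nat.card (ConjClasses S) := by
  obtain ⟨e⟩ := h
  rw [card_classes_congr e]
  exact he_model

end Cfsg.Agent.H771.KHe
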